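import Cfsg.Agent.Known.Unit.Out
import Cfsg.Agent.Known.AutPSLn.Invol.Split
import Cfsg.Agent.Known.FieldEmbed

/-!
Involutory graph automorphisms of `PSU_n(q)` descend to involutory graph automorphisms of `PSL_n(q)`.
-/

set_option autoImplicit false
set_option linter.unusedSectionVars false
set_option linter.style.haveILetI false
set_option linter.unusedVariables false

namespace Cfsg.Lib.Unitary.Invol

open Matrix Cfsg.Lib.Classical
open Cfsg.Lib.Known (AutPSLn.glMap AutPSLn.tnorm AutPSLn.hilbert90 AutPSLn.coe_glMap)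

universe u v

variable {F : Type u} [Field F] [Fintype F] {n q : ℕ} (hF : Fintype.card F = q ^ 2)

local notation "Mn" => Matrix (Fin n) (Fin n) F
local notation "GLn" => GL (Fin n) F
local notation "GUn" => Cfsg.GU n F q
local notation "Qn" => Cfsg.PSU n F q

/-- The conjugation of the field as an automorphism. -/
noncomputable def tauE : F ≃+* F :=
  RingEquiv.ofBijective (powConj hF)
    ⟨(powConj hF).injective, Finite.injective_iff_surjective.1 (powConj hF).injective⟩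

theorem tauE_apply (x : F) : tauE hF x = powConj hF x := rfl

theorem tauE_sq : tauE hF ^ 2 = 1 := RingEquiv.ext fun x => by
  rw [pow_two, RingAut.mul_apply, tauE_apply, tauE_apply, (powConj_isConj hF).invol]; rfl

theorem orderOf_tauE : orderOf (tauE hF) = 2 := by
  refine orderOf_eq_prime (tauE_sq hF) fun h => ?_
  obtain ⟨a, ha⟩ := (powConj_isConj hF).ne_id
  exact ha (DFunLike.congr_fun h a)

theorem eq_tauE {σ : F ≃+* F} (h : orderOf σ = 2) : σ = tauE hF := by
  classical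
  obtain ⟨p, hp⟩ := CharP.exists F
  obtain ⟨f, hpr, hf⟩ := FiniteField.card F p
  haveI := Fact.mk hpr
  haveI : IsCyclic (F ≃+* F) := (Known.FieldLight.ringAut_facts p f hf).1
  haveI : Finite (F ≃+* F) := Finite.of_injective _ DFunLike.coe_injective
  haveI : Fintype (F ≃+* F) := Fintype.ofFinite _
  by_contra hne
  have hle : (Finset.univ.filter fun x : F ≃+* F => x ^ 2 = 1).card ≤ 2 := IsCyclic.card_pow_eq_one_le two_pos
  have h1 : σ ≠ 1 := fun e => by rw [e, orderOf_one] at h; omega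
  have h2 : tauE hF ≠ 1 := fun e => by have := orderOf_tauE hF; rw [e, orderOf_one] at this; omega
  have hsub : ({1, σ, tauE hF} : Finset (F ≃+* F)) ⊆ Finset.univ.filter fun x => x ^ 2 = 1 := by
    intro x hx
    simp only [Finset.mem_insert, Finset.mem_singleton] at hx
    rcases hx with hx | hx | hx <;> simp [hx, h ▸ pow_orderOf_eq_one σ, tauE_sq]
  have := (Finset.card_le_card hsub).trans hle
  rw [Finset.card_insert_of_notMem (by simp [h1.symm, h2.symm]), Finset.card_insert_of_notMem (by simp [hne]),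
    Finset.card_singleton] at this
  omega

/-- The conjugate matrix. -/
noncomputable abbrev bar (M : Mn) : Mn := M.map (powConj hF)

theorem bar_mul (M N : Mn) : bar hF (M * N) = bar hF M * bar hF N := Matrix.map_mul

theorem bar_bar (M : Mn) : bar hF (bar hF M) = M := Matrix.ext fun _ _ => (powConj_isConj hF).invol _

theorem bar_smul (c : F) (M : Mn) : bar hF (c • M) = powConj hF c • bar hF M :=
  Matrix.ext fun _ _ => map_mul (powConj hF) _ _

theorem bar_transpose (M : Mn) : bar hF Mᵀ = (bar hF M)ᵀ := rfl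

theorem bar_one : bar hF (1 : Mn) = 1 := Matrix.map_one _ (map_zero _) (map_one _)

theorem gu_bar (g : GUn) : (bar hF ((g : GLn) : Mn))ᵀ * ((g : GLn) : Mn) = 1 :=
  (UnitaryConj.mem_GU hF _).1 g.2

theorem gu_inv (g : GUn) : (((g⁻¹ : GUn) : GLn) : Mn) = (bar hF ((g : GLn) : Mn))ᵀ := by
  have h : (((g⁻¹ : GUn) : GLn) : Mn) * ((g : GLn) : Mn) = 1 := (g : GLn).inv_mul
  exact ((g : GLn).isUnit.mul_left_inj).1 (h.trans (gu_bar hF g).symm)

theorem gu_transpose_bar (g : GUn) : ((g : GLn) : Mn)ᵀ * bar hF ((g : GLn) : Mn) = 1 := by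
  have := congrArg Matrix.transpose (gu_bar hF g)
  rwa [transpose_mul, transpose_transpose, transpose_one] at this

theorem gu_bar_transpose (g : GUn) : bar hF ((g : GLn) : Mn) * ((g : GLn) : Mn)ᵀ = 1 :=
  mul_eq_one_comm.1 (gu_transpose_bar hF g)

/-- A scalar between unitary matrices has norm one. -/
theorem scalar_N1 (hn : 0 < n) {A B : GUn} {u : F} (h : ((B : GLn) : Mn) = u • ((A : GLn) : Mn)) :
    ∃ w : N1 hF, ((w : Fˣ) : F) = u ∧ B = scU hF w * A := by
  have e := gu_bar hF B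
  rw [h, bar_smul, transpose_smul, smul_mul_assoc, mul_smul_comm, smul_smul, gu_bar] at e
  have huu : powConj hF u * u = 1 := by
    simpa using congrFun (congrFun e ⟨0, hn⟩) ⟨0, hn⟩
  haveI : Nonempty (Fin n) := ⟨⟨0, hn⟩⟩
  have hu0 : u ≠ 0 := fun h0 => by rw [h0, mul_zero] at huu; exact zero_ne_one huu
  refine ⟨⟨Units.mk0 u hu0, (mem_N1 hF _).2 (by rw [mul_comm]; exact huu)⟩, rfl, gu_ext ?_⟩
  rw [coe_gu_mul, coe_scU, smul_mul_assoc, one_mul]
  exact h

/-- The graph automorphism of a unitary matrix. -/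
noncomputable def gamU (A : GUn) : MulAut Qn := conjU A * fieldU (tauE hF)

theorem exists_gamU (hn : 3 ≤ n) {β : MulAut Qn} (h : Cfsg.IsGraphAutClassPSU β) (h2 : orderOf β = 2) :
    ∃ A : GUn, β = gamU hF A := by
  obtain ⟨-, δ, φ, σ, hev, hδ, hφ, rfl⟩ := h
  obtain ⟨g, rfl⟩ := innerDiag_iff.1 hδ
  obtain rfl := eq_fieldU hφ
  refine ⟨g, ?_⟩
  have hp := pow_orderOf_eq_one (conjU g * fieldU σ : MulAut Qn)
  rw [h2, pow_two, ← mul_assoc, mul_assoc (conjU g), fieldU_mul_conjU, ← mul_assoc, ← map_mul, mul_assoc, ← map_mul] at hp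
  have hσ := (conjU_fieldU_eq_one hF hn hp).2
  have hord : orderOf σ = 2 := orderOf_eq_prime (by rw [pow_two]; exact hσ) fun e => by
    rw [e, orderOf_one] at hev; exact absurd hev (by decide)
  rw [gamU, ← eq_tauE hF hord]

theorem isGraph_gamU (hn : 3 ≤ n) (A : GUn) : Cfsg.IsGraphAutClassPSU (gamU hF A) :=
  ⟨hn, _, _, tauE hF, by rw [orderOf_tauE]; exact even_two, innerDiag_iff.2 ⟨A, rfl⟩, isFieldAut_fieldU _, rfl⟩

theorem coe_guAut_tau (g : GUn) :
    (((guAut (tauE hF) g : GUn) : GLn) : Mn) = bar hF ((g : GLn) : Mn) := rfl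

theorem orderOf_gamU (hn : 3 ≤ n) (A : GUn) :
    orderOf (gamU hF A) = 2 ↔
      ((A : GLn) : Mn)ᵀ = (A : GLn) ∨ ((A : GLn) : Mn)ᵀ = -((A : GLn) : Mn) := by
  have hsq : gamU hF A * gamU hF A = conjU (A * guAut (tauE hF) A) := by
    rw [gamU, mul_assoc, ← mul_assoc (fieldU (tauE hF)), fieldU_mul_conjU, mul_assoc, ← map_mul fieldU, ← pow_two,
      tauE_sq, map_one, mul_one, map_mul]
  have hne : gamU hF A ≠ 1 := fun h => by
    have := orderOf_tauE hF
    rw [(conjU_fieldU_eq_one hF hn h).2, orderOf_one] at this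
    omega
  rw [orderOf_eq_prime_iff, pow_two, hsq, and_iff_left hne, conjU_eq_one_iff hF hn]
  constructor
  · rintro ⟨u, hu⟩
    have e : ((A : GLn) : Mn) * bar hF ((A : GLn) : Mn) = ((u : Fˣ) : F) • 1 := by
      rw [← coe_guAut_tau, ← coe_gu_mul, hu, coe_scU]
    have e1 : ((A : GLn) : Mn) = ((u : Fˣ) : F) • ((A : GLn) : Mn)ᵀ := by
      calc ((A : GLn) : Mn) = ((A : GLn) : Mn) * (bar hF ((A : GLn) : Mn) * ((A : GLn) : Mn)ᵀ) := by
            rw [gu_bar_transpose, mul_one]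
        _ = _ := by rw [← mul_assoc, e, smul_mul_assoc, one_mul]
    have e2 : ((A : GLn) : Mn)ᵀ = ((u : Fˣ) : F) • ((A : GLn) : Mn) := by
      conv_lhs => rw [e1]
      rw [transpose_smul, transpose_transpose]
    have h3 : (((u : Fˣ) : F) * ((u : Fˣ) : F) - 1) • ((A : GLn) : Mn) = 0 := by
      rw [sub_smul, one_smul, mul_smul, ← e2, ← e1, sub_self]
    have hA0 : ((A : GLn) : Mn) ≠ 0 := fun h0 => by
      have := (A : GLn).mul_inv
      rw [h0, zero_mul] at this
      exact one_ne_zero (α := F) (by simpa using (congrFun (congrFun this (⟨0, by omega⟩ : Fin n)) ⟨0, by omega⟩).symm)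
    rcases mul_self_eq_one_iff.1 (sub_eq_zero.1 ((smul_eq_zero.1 h3).resolve_right hA0)) with h | h
    · exact .inl (by rw [e2, h, one_smul])
    · exact .inr (by rw [e2, h, neg_smul, one_smul])
  · intro h
    obtain ⟨s, hs⟩ : ∃ s : F, ((A : GLn) : Mn) = s • ((A : GLn) : Mn)ᵀ := by
      rcases h with h | h
      · exact ⟨1, by rw [h, one_smul]⟩
      · exact ⟨-1, by rw [h, smul_neg, neg_smul, one_smul, neg_neg]⟩
    have e : (((A * guAut (tauE hF) A : GUn) : GLn) : Mn) = s • (((1 : GUn) : GLn) : Mn) := by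
      rw [coe_gu_mul, coe_guAut_tau]
      rw [show ((A : GLn) : Mn) * bar hF ((A : GLn) : Mn) = (s • ((A : GLn) : Mn)ᵀ) * bar hF ((A : GLn) : Mn) from
        congrArg (· * bar hF ((A : GLn) : Mn)) hs, smul_mul_assoc, gu_transpose_bar]
      rfl
    obtain ⟨w, -, hw⟩ := scalar_N1 hF (by omega) e
    exact ⟨w, by rw [hw, mul_one]⟩

theorem gamU_eq_iff (hn : 3 ≤ n) (A B : GUn) :
    gamU hF A = gamU hF B ↔ ∃ u : F, ((B : GLn) : Mn) = u • ((A : GLn) : Mn) := by
  rw [gamU, gamU, mul_left_inj, eq_comm, ← mul_inv_eq_one, ← map_inv, ← map_mul, conjU_eq_one_iff hF hn]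
  constructor
  · rintro ⟨u, hu⟩
    refine ⟨((u : Fˣ) : F), ?_⟩
    rw [mul_inv_eq_iff_eq_mul.1 hu, coe_gu_mul, coe_scU, smul_mul_assoc, one_mul]
  · rintro ⟨u, hu⟩
    obtain ⟨w, -, hw⟩ := scalar_N1 hF (by omega) hu
    exact ⟨w, by rw [hw, mul_inv_cancel_right]⟩

theorem conj_gamU (g A : GUn) :
    (conjU g : MulAut Qn) * gamU hF A * (conjU g)⁻¹ = gamU hF (g * A * guAut (tauE hF) g⁻¹) := by
  rw [gamU, gamU, ← map_inv, mul_assoc (conjU g), mul_assoc (conjU A), fieldU_mul_conjU, map_mul, map_mul]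
  group

theorem coe_congrU (g A : GUn) : (((g * A * guAut (tauE hF) g⁻¹ : GUn) : GLn) : Mn) =
    ((g : GLn) : Mn) * ((A : GLn) : Mn) * ((g : GLn) : Mn)ᵀ := by
  rw [coe_gu_mul, coe_gu_mul, coe_guAut_tau, gu_inv hF, bar_transpose, bar_bar]

theorem comm_iffU (hn : 3 ≤ n) (g A : GUn) :
    (conjU g : MulAut Qn) * gamU hF A = gamU hF A * conjU g ↔
      ∃ u : F, ((g : GLn) : Mn) * ((A : GLn) : Mn) * ((g : GLn) : Mn)ᵀ = u • ((A : GLn) : Mn) := by
  rw [← mul_inv_eq_iff_eq_mul, conj_gamU, eq_comm, gamU_eq_iff hF hn]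
  simp only [coe_congrU]

section Descent

variable {F₀ : Type v} [Field F₀] [Fintype F₀] (ι : F₀ →+* F) (hι : ∀ x, powConj hF x = x ↔ x ∈ Set.range ι)

local notation "M₀" => Matrix (Fin n) (Fin n) F₀
local notation "GL₀" => GL (Fin n) F₀

theorem bar_map (hι : ∀ x, powConj hF x = x ↔ x ∈ Set.range ι) (M : M₀) : bar hF (M.map ι) = M.map ι :=
  Matrix.ext fun _ _ => (hι _).2 ⟨_, rfl⟩

/-- `G` is the form of `A` in a basis of fixed vectors of the semilinear map of `A`. -/
def IsDesc (A : GUn) (G : GL₀) (X : GLn) (lam d : F) : Prop :=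
  lam ≠ 0 ∧ d ≠ 0 ∧ lam • (((A : GLn) : Mn) * bar hF (X : Mn)) = (X : Mn) ∧
    (bar hF (X : Mn))ᵀ * (X : Mn) = d • (G : M₀).map ι

theorem exists_desc (hn : 0 < n) (A : GUn) {ε : F} {ε₀ : F₀} (hε : ε = 1 ∨ ε = -1) (he : ι ε₀ = ε)
    (hι : ∀ x, powConj hF x = x ↔ x ∈ Set.range ι) (hA : ((A : GLn) : Mn)ᵀ = ε • ((A : GLn) : Mn)) :
    ∃ (G : GL₀) (X : GLn) (lam d : F), (G : M₀)ᵀ = ε₀ • (G : M₀) ∧ IsDesc hF ι A G X lam d := by
  have hφ : powConj hF ε = ε := (hι _).2 ⟨ε₀, he⟩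
  have hee : ε * ε = 1 := by rcases hε with rfl | rfl <;> ring
  have hε0 : ε ≠ 0 := fun h => by rw [h, zero_mul] at hee; exact zero_ne_one hee
  obtain ⟨lam, hlam⟩ := (powConj_isConj hF).norm_surjective hφ
  have hl0 : lam ≠ 0 := fun h => hε0 (by rw [← hlam, h, zero_mul])
  have hAA : ((A : GLn) : Mn) * bar hF ((A : GLn) : Mn) = ε • 1 := by
    conv_lhs => rw [show ((A : GLn) : Mn) = ε • ((A : GLn) : Mn)ᵀ by rw [hA, smul_smul, hee, one_smul]]
    rw [bar_smul, hφ, smul_mul_assoc]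
    conv_rhs => rw [← gu_transpose_bar hF A]
    rw [mul_smul_comm, smul_smul, hee, one_smul, bar_transpose]
    have : (bar hF ((A : GLn) : Mn))ᵀ = ε • bar hF ((A : GLn) : Mn) := by
      rw [← bar_transpose, hA, bar_smul, hφ]
    rw [this, mul_smul_comm]
  let A' : GLn := Known.AutPSLn.sc (Units.mk0 lam hl0) * (A : GLn)
  have hA' : (A' : Mn) = lam • ((A : GLn) : Mn) := by
    rw [Units.val_mul, Known.AutPSLn.coe_sc, scalar_apply, ← smul_one_eq_diagonal, smul_mul_assoc, one_mul]; rfl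
  have hN : AutPSLn.tnorm (AutPSLn.glMap (tauE hF)) A' 2 = 1 := by
    refine Units.ext ?_
    simp only [AutPSLn.tnorm, map_one, mul_one, Units.val_mul, Units.val_one, AutPSLn.coe_glMap]
    show (A' : Mn) * bar hF (A' : Mn) = 1
    rw [hA', bar_smul, smul_mul_assoc, mul_smul_comm, smul_smul, hlam, hAA, smul_smul, hee, one_smul]
  obtain ⟨X, hX⟩ := AutPSLn.hilbert90 (orderOf_tauE hF) two_pos A' hN
  have hX1 : lam • (((A : GLn) : Mn) * bar hF (X : Mn)) = (X : Mn) := by
    rw [← smul_mul_assoc, ← hA']; exact congrArg Units.val hX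
  have hX2 : bar hF (X : Mn) = powConj hF lam • (bar hF ((A : GLn) : Mn) * (X : Mn)) := by
    conv_lhs => rw [← hX1]
    rw [bar_smul, bar_mul, bar_bar]
  set G' : Mn := (bar hF (X : Mn))ᵀ * (X : Mn) with hG'
  have hsym : G'ᵀ = ε • G' := by
    rw [hG', transpose_mul, transpose_transpose]
    conv_rhs => rw [hX2, transpose_smul, transpose_mul, ← bar_transpose, hA, bar_smul, hφ]
    conv_lhs => rw [hX2]
    simp only [mul_smul_comm, smul_mul_assoc, smul_smul, Matrix.mul_assoc]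
    rw [show ε * (powConj hF lam * ε) = powConj hF lam by linear_combination (powConj hF lam) * hee]
  have hherm : bar hF G' = ε • G' := by
    rw [← hsym, hG', bar_mul, bar_transpose, bar_bar, transpose_mul, transpose_transpose]
  obtain ⟨d, hd0, hd⟩ : ∃ d : F, d ≠ 0 ∧ powConj hF d = ε * d := by
    rcases hε with rfl | rfl
    · exact ⟨1, one_ne_zero, by rw [map_one, one_mul]⟩
    · obtain ⟨c, hc0, hc⟩ := (powConj_isConj hF).exists_skew
      exact ⟨c, hc0, by linear_combination hc⟩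
  have hreal : ∀ i j, ∃ y, ι y = d⁻¹ * G' i j := fun i j => by
    refine (hι _).1 ?_
    rw [map_mul, map_inv₀, hd, show powConj hF (G' i j) = ε * G' i j from congrFun (congrFun hherm i) j]
    field_simp
  choose y hy using hreal
  have hGm : G' = d • (Matrix.of y).map ι := by
    ext i j
    rw [Matrix.smul_apply, Matrix.map_apply, Matrix.of_apply, hy, smul_eq_mul, mul_inv_cancel_left₀ hd0]
  have hdet : (Matrix.of y).det ≠ 0 := by
    intro h0
    have h1 : G'.det = 0 := by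
      rw [hGm, det_smul, show ((Matrix.of y).map ι).det = ι (Matrix.of y).det from (RingHom.map_det ι _).symm, h0,
        map_zero, mul_zero]
    rw [hG', det_mul, det_transpose, show (bar hF (X : Mn)).det = powConj hF (X : Mn).det from
      (RingHom.map_det _ _).symm] at h1
    have hx : (X : Mn).det ≠ 0 := ((Matrix.isUnit_iff_isUnit_det _).1 X.isUnit).ne_zero
    rcases mul_eq_zero.1 h1 with h | h
    · exact hx ((map_eq_zero (powConj hF)).1 h)
    · exact hx h
  refine ⟨GeneralLinearGroup.mkOfDetNeZero _ hdet, X, lam, d, Matrix.map_injective ι.injective ?_, hl0, hd0, hX1, hGm⟩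
  refine smul_right_injective _ hd0 ?_
  show d • ((Matrix.of y)ᵀ).map ι = d • (ε₀ • Matrix.of y).map ι
  rw [transpose_map, ← transpose_smul, ← hGm, hsym, hGm]
  ext i j
  simp [he]
  ring

theorem exists_gu (hn : 0 < n) (G : GL₀) {ε : F} {ε₀ : F₀} (hε : ε = 1 ∨ ε = -1) (he : ι ε₀ = ε)
    (hι : ∀ x, powConj hF x = x ↔ x ∈ Set.range ι) (hG : (G : M₀)ᵀ = ε₀ • (G : M₀)) :
    ∃ (A : GUn) (X : GLn) (lam d : F),
      ((A : GLn) : Mn)ᵀ = ε • ((A : GLn) : Mn) ∧ IsDesc hF ι A G X lam d := by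
  have hφ : powConj hF ε = ε := (hι _).2 ⟨ε₀, he⟩
  have hee : ε * ε = 1 := by rcases hε with rfl | rfl <;> ring
  have hε0 : ε ≠ 0 := fun h => by rw [h, zero_mul] at hee; exact zero_ne_one hee
  obtain ⟨lam, hlam⟩ := (powConj_isConj hF).norm_surjective hφ
  have hl0 : lam ≠ 0 := fun h => hε0 (by rw [← hlam, h, zero_mul])
  obtain ⟨d, hd0, hd⟩ : ∃ d : F, d ≠ 0 ∧ powConj hF d = ε * d := by
    rcases hε with rfl | rfl
    · exact ⟨1, one_ne_zero, by rw [map_one, one_mul]⟩
    · obtain ⟨c, hc0, hc⟩ := (powConj_isConj hF).exists_skew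
      exact ⟨c, hc0, by linear_combination hc⟩
  set H : Mn := d • (G : M₀).map ι with hH
  have hHt : Hᵀ = ε • H := by
    rw [hH, transpose_smul, ← transpose_map, hG]
    ext i j
    simp [he]; ring
  have hHb : bar hF H = ε • H := by rw [hH, bar_smul, bar_map hF ι hι, hd, mul_smul]
  have hdetH : H.det ≠ 0 := by
    rw [hH, det_smul, show ((G : M₀).map ι).det = ι (G : M₀).det from (RingHom.map_det ι _).symm]
    exact mul_ne_zero (pow_ne_zero _ hd0)
      ((map_ne_zero ι).2 ((Matrix.isUnit_iff_isUnit_det _).1 G.isUnit).ne_zero)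
  let HS : HermSpace F (Fin n → F) :=
    { σ := powConj hF
      h := fun x y => x ⬝ᵥ (H *ᵥ (powConj hF ∘ y))
      conj := powConj_isConj hF
      add_left := fun x y z => add_dotProduct _ _ _
      smul_left := fun a x z => smul_dotProduct _ _ _
      symm := fun x y => by
        show x ⬝ᵥ (H *ᵥ (powConj hF ∘ y)) = powConj hF (y ⬝ᵥ (H *ᵥ (powConj hF ∘ x)))
        have hsw : ∀ i j, powConj hF (H i j) = H j i := fun i j =>
          (congrFun (congrFun hHb i) j).trans (congrFun (congrFun hHt i) j).symm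
        simp only [dotProduct, mulVec, Function.comp_apply, map_sum, map_mul, (powConj_isConj hF).invol, hsw,
          Finset.mul_sum]
        rw [Finset.sum_comm]
        exact Finset.sum_congr rfl fun i _ => Finset.sum_congr rfl fun j _ => by ring
      nondeg := fun v hv => by
        have h0 : H *ᵥ (powConj hF ∘ v) = 0 := dotProduct_eq_zero _ fun w => by
          rw [dotProduct_comm]; exact hv w
        by_contra hne
        refine hdetH (Matrix.exists_mulVec_eq_zero_iff.1 ⟨_, fun h1 => hne ?_, h0⟩)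
        exact funext fun i => (powConj hF).injective ((congrFun h1 i).trans (map_zero _).symm) }
  obtain ⟨b, hb⟩ := HS.exists_orthonormal
  let B : Mn := Matrix.of fun i => b (Fin.cast (Module.finrank_fin_fun F).symm i)
  have hBH : B * H * (bar hF B)ᵀ = 1 := by
    ext i j
    have := hb (Fin.cast (Module.finrank_fin_fun F).symm i) (Fin.cast (Module.finrank_fin_fun F).symm j)
    rw [Matrix.one_apply, mul_assoc]
    refine Eq.trans ?_ (this.trans (by simp [Fin.ext_iff]))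
    simp only [HS, B, mul_apply, dotProduct, mulVec, Function.comp_apply, transpose_apply, Matrix.map_apply, of_apply]
  have hBu : IsUnit B := IsUnit.of_mul_eq_one (H * (bar hF B)ᵀ) (by rw [← mul_assoc, hBH])
  set Bi : Mn := ((hBu.unit⁻¹ : GLn) : Mn) with hBi
  have hBiB : Bi * B = 1 := by rw [hBi]; exact hBu.val_inv_mul
  have hBBi : B * Bi = 1 := mul_eq_one_comm.1 hBiB
  set Xm : Mn := (bar hF Bi)ᵀ with hXm
  have hXdet : Xm.det ≠ 0 := by
    rw [hXm, det_transpose, show (bar hF Bi).det = powConj hF Bi.det from (RingHom.map_det _ _).symm]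
    exact (map_ne_zero _).2 ((Matrix.isUnit_iff_isUnit_det _).1 (hBu.unit⁻¹).isUnit).ne_zero
  set X : GLn := GeneralLinearGroup.mkOfDetNeZero Xm hXdet with hXdef
  have hXH : (bar hF (X : Mn))ᵀ * (X : Mn) = H := by
    show (bar hF Xm)ᵀ * Xm = H
    rw [hXm, bar_transpose, bar_bar, transpose_transpose]
    calc Bi * (bar hF Bi)ᵀ = Bi * (B * H * (bar hF B)ᵀ) * (bar hF Bi)ᵀ := by rw [hBH, mul_one]
      _ = (Bi * B) * H * (bar hF (Bi * B))ᵀ := by rw [bar_mul, transpose_mul]; simp only [mul_assoc]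
      _ = H := by rw [hBiB, bar_one, transpose_one, one_mul, mul_one]
  let X' : GLn := Known.AutPSLn.glMap (tauE hF) X
  have hX' : (X' : Mn) = bar hF (X : Mn) := rfl
  set P : Mn := (X : Mn) * ((X'⁻¹ : GLn) : Mn) with hP
  have hPX : P * bar hF (X : Mn) = X := by rw [hP, ← hX', mul_assoc, X'.inv_mul, mul_one]
  have hswap : (X : Mn)ᵀ * bar hF (X : Mn) = ε • H := by
    rw [← hHt, ← hXH, transpose_mul, transpose_transpose]
  have hbu : IsUnit (bar hF (X : Mn)) := hX' ▸ X'.isUnit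
  have hbtu : IsUnit (bar hF (X : Mn))ᵀ := (Matrix.isUnit_transpose _).2 hbu
  have hPt : Pᵀ = ε • P := by
    refine hbtu.mul_left_cancel (hbu.mul_right_cancel ?_)
    calc (bar hF (X : Mn))ᵀ * Pᵀ * bar hF (X : Mn) = (P * bar hF (X : Mn))ᵀ * bar hF (X : Mn) := by
          rw [← transpose_mul]
      _ = ε • ((bar hF (X : Mn))ᵀ * (P * bar hF (X : Mn))) := by rw [hPX, hXH, hswap]
      _ = _ := by simp only [mul_smul_comm, smul_mul_assoc, mul_assoc]
  have hbP : bar hF P * (X : Mn) = bar hF (X : Mn) := by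
    conv_rhs => rw [← hPX]
    rw [bar_mul hF P, bar_bar]
  have hPP : P * bar hF P = 1 := by
    refine X.isUnit.mul_right_cancel ?_
    rw [mul_assoc, hbP, hPX, one_mul]
  have hcP : (bar hF P)ᵀ * P = ε • 1 := by
    rw [← bar_transpose, hPt, bar_smul, hφ, smul_mul_assoc, mul_eq_one_comm.1 hPP]
  obtain ⟨A, hA⟩ := UnitaryConj.exists_GU_of hF (lam⁻¹ • P) (by
    show (bar hF (lam⁻¹ • P))ᵀ * (lam⁻¹ • P) = 1
    rw [bar_smul, transpose_smul, smul_mul_assoc, mul_smul_comm, smul_smul, hcP, smul_smul, map_inv₀, ← mul_inv,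
      mul_comm _ lam, hlam, inv_mul_cancel₀ hε0, one_smul])
  refine ⟨A, X, lam, d, ?_, hl0, hd0, ?_, hXH⟩
  · rw [hA, transpose_smul, hPt, smul_comm]
  · rw [hA, smul_mul_assoc, smul_smul, mul_inv_cancel₀ hl0, one_smul, hPX]

variable {ι}

theorem sim_of_conj (hι : ∀ x, powConj hF x = x ↔ x ∈ Set.range ι) (hn : 0 < n) {A B h : GUn} {G H : GL₀}
    {X Y : GLn} {la mu d e : F} (hA : IsDesc hF ι A G X la d) (hB : IsDesc hF ι B H Y mu e) {u : F}
    (hu : ((h : GLn) : Mn) * ((A : GLn) : Mn) * ((h : GLn) : Mn)ᵀ = u • ((B : GLn) : Mn)) :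
    ∃ (M : GL₀) (c : F₀ˣ) (z : F), z ≠ 0 ∧ (M : M₀)ᵀ * (H : M₀) * (M : M₀) = (c : F₀) • (G : M₀) ∧
      ((h : GLn) : Mn) * (X : Mn) = z • ((Y : Mn) * (M : M₀).map ι) ∧ e * (z * powConj hF z) * ι c = d := by
  obtain ⟨hla, hd0, hX, hXG⟩ := hA
  obtain ⟨hmu, he0, hY, hYH⟩ := hB
  obtain ⟨w0, -, hw0⟩ := scalar_N1 hF hn (A := B) (B := h * A * guAut (tauE hF) h⁻¹) (u := u)
    (by rw [coe_congrU, hu])
  haveI : Nonempty (Fin n) := ⟨⟨0, hn⟩⟩
  have hu0 : u ≠ 0 := fun h0 => by
    rw [h0, zero_smul] at hu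
    refine ((((h : GLn).isUnit.mul (A : GLn).isUnit).mul ((Matrix.isUnit_transpose _).2 (h : GLn).isUnit))).ne_zero ?_
    exact hu
  have hhA : ((h : GLn) : Mn) * ((A : GLn) : Mn) = u • (((B : GLn) : Mn) * bar hF ((h : GLn) : Mn)) := by
    rw [← smul_mul_assoc, ← hu, mul_assoc (_ * _), gu_transpose_bar, mul_one]
  let M : GLn := Y⁻¹ * (h : GLn) * X
  have hM : (Y : Mn) * (M : Mn) = ((h : GLn) : Mn) * (X : Mn) := by
    rw [← Units.val_mul, ← Units.val_mul]
    exact congrArg Units.val (show Y * M = (h : GLn) * X by simp [M, mul_assoc])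
  set w : F := mu / (u * la) with hw
  have hMb : bar hF (M : Mn) = w • (M : Mn) := by
    refine Y.isUnit.mul_left_cancel ?_
    rw [mul_smul_comm, hM]
    calc (Y : Mn) * bar hF (M : Mn) = mu • (((B : GLn) : Mn) * bar hF ((Y : Mn) * (M : Mn))) := by
          rw [bar_mul, ← mul_assoc, ← smul_mul_assoc, hY]
      _ = mu • ((u⁻¹ • (((h : GLn) : Mn) * ((A : GLn) : Mn))) * bar hF (X : Mn)) := by
          rw [hM, bar_mul, hhA, smul_smul, inv_mul_cancel₀ hu0, one_smul, mul_assoc]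
      _ = w • (((h : GLn) : Mn) * (X : Mn)) := by
          conv_rhs => rw [← hX]
          rw [hw]
          simp only [smul_mul_assoc, mul_smul_comm, smul_smul, mul_assoc]
          congr 1
          field_simp
  have hM0 : (M : Mn) ≠ 0 := M.isUnit.ne_zero
  have hww : w * powConj hF w = 1 := by
    have e1 : (M : Mn) = (powConj hF w * w) • (M : Mn) := by
      conv_lhs => rw [← bar_bar hF (M : Mn), hMb, bar_smul, hMb, smul_smul]
    have : (powConj hF w * w - 1) • (M : Mn) = 0 := by rw [sub_smul, one_smul, ← e1, sub_self]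
    rw [mul_comm]
    exact sub_eq_zero.1 ((smul_eq_zero.1 this).resolve_right hM0)
  obtain ⟨z, hz0, hz⟩ := (powConj_isConj hF).exists_div_eq hww
  have hreal : ∀ i j, ∃ y, ι y = z * (M : Mn) i j := fun i j => by
    refine (hι _).1 ?_
    have e1 : powConj hF ((M : Mn) i j) = w * (M : Mn) i j := congrFun (congrFun hMb i) j
    rw [map_mul, e1]
    linear_combination (-((M : Mn) i j)) * hz
  choose y hy using hreal
  have hMm : (M : Mn) = z⁻¹ • (Matrix.of y).map ι := by
    ext i j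
    rw [Matrix.smul_apply, Matrix.map_apply, Matrix.of_apply, hy, smul_eq_mul, inv_mul_cancel_left₀ hz0]
  have hdet : (Matrix.of y).det ≠ 0 := fun h0 => by
    refine ((Matrix.isUnit_iff_isUnit_det _).1 M.isUnit).ne_zero ?_
    rw [hMm, det_smul, show ((Matrix.of y).map ι).det = ι (Matrix.of y).det from (RingHom.map_det ι _).symm, h0,
      map_zero, mul_zero]
  set M' : GL₀ := GeneralLinearGroup.mkOfDetNeZero _ hdet
  have hhX : ((h : GLn) : Mn) * (X : Mn) = z⁻¹ • ((Y : Mn) * (M' : M₀).map ι) := by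
    rw [← hM, hMm, mul_smul_comm]; rfl
  set t : F := e * (z⁻¹ * powConj hF z⁻¹) with ht
  have hcong : d • (G : M₀).map ι = t • (((M' : M₀)ᵀ * (H : M₀) * (M' : M₀)).map ι) := by
    rw [← hXG]
    calc (bar hF (X : Mn))ᵀ * (X : Mn)
        = (bar hF (((h : GLn) : Mn) * (X : Mn)))ᵀ * (((h : GLn) : Mn) * (X : Mn)) := by
          rw [bar_mul, transpose_mul, mul_assoc, ← mul_assoc _ ((h : GLn) : Mn), gu_bar, one_mul]
      _ = (powConj hF z⁻¹ * z⁻¹) •
          (((M' : M₀).map ι)ᵀ * ((bar hF (Y : Mn))ᵀ * (Y : Mn)) * (M' : M₀).map ι) := by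
          rw [hhX, bar_smul, bar_mul, bar_map hF ι hι, transpose_smul, transpose_mul]
          simp only [smul_mul_assoc, mul_smul_comm, smul_smul, mul_assoc]
          rw [mul_comm]
      _ = _ := by
          rw [hYH, Matrix.map_mul, Matrix.map_mul, transpose_map, ht]
          simp only [smul_mul_assoc, mul_smul_comm, smul_smul]
          congr 1
          ring
  have ht0 : t ≠ 0 :=
    mul_ne_zero he0 (mul_ne_zero (inv_ne_zero hz0) ((map_ne_zero _).2 (inv_ne_zero hz0)))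
  obtain ⟨i, j, hij⟩ : ∃ i j, (G : M₀) i j ≠ 0 := by
    by_contra h0
    push Not at h0
    exact G.isUnit.ne_zero (Matrix.ext h0)
  set c : F₀ := ((M' : M₀)ᵀ * (H : M₀) * (M' : M₀)) i j / (G : M₀) i j with hcdef
  have hcv : t * ι c = d := by
    have e1 : d * ι ((G : M₀) i j) = t * ι (((M' : M₀)ᵀ * (H : M₀) * (M' : M₀)) i j) := congrFun (congrFun hcong i) j
    rw [hcdef, map_div₀]
    field_simp [(map_ne_zero ι).2 hij]
    linear_combination -e1
  have hc0 : c ≠ 0 := fun h0 => by rw [h0, map_zero, mul_zero] at hcv; exact hd0 hcv.symm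
  refine ⟨M', Units.mk0 c hc0, z⁻¹, inv_ne_zero hz0, Matrix.map_injective ι.injective ?_, hhX, hcv⟩
  refine smul_right_injective _ ht0 ?_
  show t • (((M' : M₀)ᵀ * (H : M₀) * (M' : M₀)).map ι) = t • (c • (G : M₀)).map ι
  rw [← hcong, ← hcv]
  ext a b
  simp
  ring

theorem conj_of_sim (hι : ∀ x, powConj hF x = x ↔ x ∈ Set.range ι) (hn : 0 < n) {A B : GUn} {G H : GL₀}
    {X Y : GLn} {la mu d e : F} (hA : IsDesc hF ι A G X la d) (hB : IsDesc hF ι B H Y mu e) (M : GL₀)
    {c : F₀ˣ} (hM : (M : M₀)ᵀ * (H : M₀) * (M : M₀) = (c : F₀) • (G : M₀)) :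
    ∃ (h : GUn) (z u : F), z ≠ 0 ∧ ((h : GLn) : Mn) * (X : Mn) = z • ((Y : Mn) * (M : M₀).map ι) ∧
      ((h : GLn) : Mn) * ((A : GLn) : Mn) * ((h : GLn) : Mn)ᵀ = u • ((B : GLn) : Mn) := by
  obtain ⟨hla, hd0, hX, hXG⟩ := hA
  obtain ⟨hmu, he0, hY, hYH⟩ := hB
  have hc0 : (ι (c : F₀) : F) ≠ 0 := (map_ne_zero ι).2 c.ne_zero
  have hherm : ∀ (Z : Mn) (a : F) (K : M₀), (bar hF Z)ᵀ * Z = a • K.map ι →
      powConj hF a • (K.map ι)ᵀ = a • K.map ι := fun Z a K hZ => by
    rw [← hZ]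
    have e1 := congrArg (fun W => (bar hF W)ᵀ) hZ
    simp only [bar_smul, bar_map hF ι hι, transpose_smul, bar_mul, bar_transpose, bar_bar, transpose_mul,
      transpose_transpose] at e1
    exact e1.symm
  have e1 : powConj hF d • ((G : M₀).map ι)ᵀ = d • (G : M₀).map ι := hherm _ _ _ hXG
  have hYM : (bar hF ((Y : Mn) * (M : M₀).map ι))ᵀ * ((Y : Mn) * (M : M₀).map ι) =
      (e * ι c) • (G : M₀).map ι := by
    rw [bar_mul, bar_map hF ι hι, transpose_mul, mul_assoc, ← mul_assoc _ (Y : Mn), hYH]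
    have := congrArg (fun K : M₀ => K.map ι) hM
    simp only [Matrix.map_mul, transpose_map] at this
    rw [smul_mul_assoc, mul_smul_comm, ← mul_assoc, this]
    ext a b
    simp
    ring
  have e2 : powConj hF (e * ι c) • ((G : M₀).map ι)ᵀ = (e * ι c) • (G : M₀).map ι := hherm _ _ _ hYM
  set a : F := d / (e * ι c) with ha
  have ha0 : a ≠ 0 := div_ne_zero hd0 (mul_ne_zero he0 hc0)
  have hafix : powConj hF a = a := by
    obtain ⟨i, j, hij⟩ : ∃ i j, (G : M₀) i j ≠ 0 := by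
      haveI : Nonempty (Fin n) := ⟨⟨0, hn⟩⟩
      by_contra h0
      push Not at h0
      exact G.isUnit.ne_zero (Matrix.ext h0)
    have f1 : powConj hF d * ι ((G : M₀) j i) = d * ι ((G : M₀) i j) := congrFun (congrFun e1 i) j
    have f2 : powConj hF (e * ι c) * ι ((G : M₀) j i) = (e * ι c) * ι ((G : M₀) i j) := congrFun (congrFun e2 i) j
    have hji : (ι ((G : M₀) j i) : F) ≠ 0 := fun h0 => by
      rw [h0, mul_zero] at f1
      exact mul_ne_zero hd0 ((map_ne_zero ι).2 hij) f1.symm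
    have hb0 : powConj hF (e * ι c) ≠ 0 := (map_ne_zero _).2 (mul_ne_zero he0 hc0)
    rw [ha, map_div₀, div_eq_div_iff hb0 (mul_ne_zero he0 hc0)]
    exact mul_right_cancel₀ hji (by linear_combination (e * ι c) * f1 - d * f2)
  obtain ⟨z, hz⟩ := (powConj_isConj hF).norm_surjective hafix
  have hz0 : z ≠ 0 := fun h0 => ha0 (by rw [← hz, h0, zero_mul])
  set P : Mn := z • ((Y : Mn) * (M : M₀).map ι * ((X⁻¹ : GLn) : Mn)) with hP
  have hPX : P * (X : Mn) = z • ((Y : Mn) * (M : M₀).map ι) := by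
    rw [hP, smul_mul_assoc, mul_assoc _ _ (X : Mn), X.inv_mul, mul_one]
  have hPu : (bar hF P)ᵀ * P = 1 := by
    refine (((Matrix.isUnit_transpose _).2 ((Known.AutPSLn.glMap (tauE hF) X).isUnit)).mul_left_cancel
      (X.isUnit.mul_right_cancel ?_))
    show (bar hF (X : Mn))ᵀ * ((bar hF P)ᵀ * P) * (X : Mn) = (bar hF (X : Mn))ᵀ * 1 * (X : Mn)
    rw [mul_one, hXG, mul_assoc, mul_assoc, hPX, ← mul_assoc, ← transpose_mul, ← bar_mul, hPX, bar_smul,
      transpose_smul, smul_mul_assoc, mul_smul_comm, smul_smul, hYM, smul_smul]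
    congr 1
    rw [mul_comm (powConj hF z), hz, ha, div_mul_cancel₀ _ (mul_ne_zero he0 hc0)]
  obtain ⟨h, hh⟩ := UnitaryConj.exists_GU_of hF P hPu
  have hhX : ((h : GLn) : Mn) * (X : Mn) = z • ((Y : Mn) * (M : M₀).map ι) := by rw [hh]; exact hPX
  refine ⟨h, z, z * mu / (powConj hF z * la), hz0, hhX, ?_⟩
  have hhA : ((h : GLn) : Mn) * ((A : GLn) : Mn) =
      (z * mu / (powConj hF z * la)) • (((B : GLn) : Mn) * bar hF ((h : GLn) : Mn)) := by
    refine (Known.AutPSLn.glMap (tauE hF) X).isUnit.mul_right_cancel ?_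
    show _ * bar hF (X : Mn) = _ * bar hF (X : Mn)
    have eA : ((A : GLn) : Mn) * bar hF (X : Mn) = la⁻¹ • (X : Mn) := by
      rw [← hX, smul_smul, inv_mul_cancel₀ hla, one_smul]; rw [hX]
    have eB : ((B : GLn) : Mn) * bar hF (Y : Mn) = mu⁻¹ • (Y : Mn) := by
      rw [← hY, smul_smul, inv_mul_cancel₀ hmu, one_smul]; rw [hY]
    have hzb : powConj hF z ≠ 0 := (map_ne_zero _).2 hz0
    rw [mul_assoc, eA, mul_smul_comm, hhX, smul_mul_assoc, mul_assoc, ← bar_mul, hhX, bar_smul, bar_mul,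
      bar_map hF ι hι, mul_smul_comm, ← mul_assoc, eB]
    simp only [smul_mul_assoc, smul_smul]
    congr 1
    field_simp
  rw [hhA, smul_mul_assoc, mul_assoc, gu_bar_transpose, mul_one]

end Descent

end Cfsg.Lib.Unitary.Invol
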