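import Cfsg.Agent.Known.Unit.Invol.Basic

/-!
The correspondence between the classes of involutory graph automorphisms of `PSU_n(q)` and of `PSL_n(q)`.
-/

set_option autoImplicit false
set_option linter.unusedSectionVars false
set_option linter.style.haveILetI false
set_option linter.unusedVariables false

namespace Cfsg.Lib.Unitary.Invol

open Matrix Cfsg.Lib.Classical

universe u v

variable {F : Type u} [Field F] [Fintype F] {n q : ℕ} (hF : Fintype.card F = q ^ 2)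
  {F₀ : Type v} [Field F₀] [Fintype F₀] {ι : F₀ →+* F}

local notation "Mn" => Matrix (Fin n) (Fin n) F
local notation "GLn" => GL (Fin n) F
local notation "GUn" => Cfsg.GU n F q
local notation "Qn" => Cfsg.PSU n F q
local notation "M₀" => Matrix (Fin n) (Fin n) F₀
local notation "GL₀" => GL (Fin n) F₀
local notation "P₀" => Matrix.ProjectiveSpecialLinearGroup (Fin n) F₀

theorem exists_subfield (hF₀ : Fintype.card F₀ = q) :
    ∃ ι : F₀ →+* F, ∀ x, powConj hF x = x ↔ x ∈ Set.range ι := by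
  obtain ⟨alg, hrk⟩ := FieldEmbed.exists_quadratic hF hF₀
  letI := alg
  refine ⟨algebraMap F₀ F, fun x => ⟨fun hx => ?_, ?_⟩⟩
  · have hsub : Set.range (algebraMap F₀ F) ⊆ (fixedField (powConj hF) : Set F) := by
      rintro _ ⟨c, rfl⟩
      show powConj hF _ = _
      rw [powConj_apply, FieldEmbed.algebraMap_pow_q hF₀]; rfl
    have h1 : Nat.card (Set.range (algebraMap F₀ F)) = q := by
      rw [Nat.card_range_of_injective (algebraMap F₀ F).injective, Nat.card_eq_fintype_card, hF₀]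
    have h2 : Nat.card (fixedField (powConj hF)) = q := (exists_conj_pow hF).choose_spec.2.2
    have heq := Set.eq_of_subset_of_ncard_le hsub (le_of_eq (by
      rw [← Nat.card_coe_set_eq, ← Nat.card_coe_set_eq]
      exact h2.trans h1.symm)) (Set.toFinite _)
    rw [heq]
    exact hx
  · rintro ⟨c, rfl⟩
    rw [powConj_apply, FieldEmbed.algebraMap_pow_q hF₀]

/-- The unitary matrices centralising the graph automorphism. -/
noncomputable def SimU (A : GUn) : Subgroup GUn := (Subgroup.centralizer {gamU hF A}).comap conjU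

theorem mem_SimU (hn : 3 ≤ n) (A h : GUn) : h ∈ SimU hF A ↔
    ∃ u : F, ((h : GLn) : Mn) * ((A : GLn) : Mn) * ((h : GLn) : Mn)ᵀ = u • ((A : GLn) : Mn) := by
  rw [SimU, Subgroup.mem_comap, Subgroup.mem_centralizer_singleton_iff]
  exact comm_iffU hF hn h A

theorem cent_eq (A : GUn) :
    Cfsg.inndiagPSU n F q ⊓ Subgroup.centralizer {gamU hF A} = (SimU hF A).map conjU := by
  rw [inndiag_eq, SimU, Subgroup.map_comap_eq]

variable (hι : ∀ x, powConj hF x = x ↔ x ∈ Set.range ι)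
include hι

theorem eq_scalar_mul (hn : 0 < n) {h h' : GUn} {X : GLn} {M : Mn} {z z' : F} (hz : z ≠ 0)
    (e : ((h : GLn) : Mn) * (X : Mn) = z • M) (e' : ((h' : GLn) : Mn) * (X : Mn) = z' • M) :
    ∃ w : N1 hF, h' = scU hF w * h := by
  have : ((h' : GLn) : Mn) = (z' / z) • ((h : GLn) : Mn) := by
    refine X.isUnit.mul_right_cancel ?_
    rw [smul_mul_assoc, e, e', smul_smul, div_mul_cancel₀ _ hz]
  obtain ⟨w, -, hw⟩ := scalar_N1 hF hn this
  exact ⟨w, hw⟩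

theorem cent_equivU (hn : 3 ≤ n) {A : GUn} {G : GL₀} {X : GLn} {la d : F} (hA : IsDesc hF ι A G X la d) :
    Nonempty (↥(Cfsg.inndiagPSU n F q ⊓ Subgroup.centralizer {gamU hF A}) ≃*
      Cfsg.projQuot (Known.AutPSLn.Invol.Sim G)) := by
  classical
  set S := Known.AutPSLn.Invol.Sim G
  have hex : ∀ M : S, ∃ (h : GUn), h ∈ SimU hF A ∧ ∃ z : F, z ≠ 0 ∧
      ((h : GLn) : Mn) * (X : Mn) = z • ((X : Mn) * ((M : GL₀) : M₀).map ι) := fun M => by
    obtain ⟨c, hc⟩ := (Known.AutPSLn.Invol.mem_Sim G (M : GL₀)).1 M.2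
    obtain ⟨h, z, u, hz, hh, hu⟩ := conj_of_sim hF hι (by omega) hA hA (M : GL₀) hc
    exact ⟨h, (mem_SimU hF hn A h).2 ⟨u, hu⟩, z, hz, hh⟩
  choose f hfS hfz using hex
  have key : ∀ (M : S) (h : GUn) (z : F), ((h : GLn) : Mn) * (X : Mn) = z • ((X : Mn) * ((M : GL₀) : M₀).map ι) →
      (conjU h : MulAut Qn) = conjU (f M) := fun M h z e => by
    obtain ⟨z', hz', e'⟩ := hfz M
    obtain ⟨w, rfl⟩ := eq_scalar_mul hF hι (by omega) hz' e' e
    rw [map_mul, conjU_scU, one_mul]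
  let C := Cfsg.inndiagPSU n F q ⊓ Subgroup.centralizer {gamU hF A}
  let ψ : S →* C := MonoidHom.mk' (fun M => ⟨conjU (f M), by
      show conjU (f M) ∈ C
      rw [show C = _ from cent_eq hF A]; exact ⟨f M, hfS M, rfl⟩⟩) fun M N => Subtype.ext (by
    show (conjU (f (M * N)) : MulAut Qn) = conjU (f M) * conjU (f N)
    rw [← map_mul]
    obtain ⟨z, -, eM⟩ := hfz M
    obtain ⟨z', -, eN⟩ := hfz N
    refine (key (M * N) (f M * f N) (z' * z) ?_).symm
    rw [coe_gu_mul, mul_assoc, eN, mul_smul_comm, ← mul_assoc, eM, smul_mul_assoc, smul_smul, Subgroup.coe_mul,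
      Units.val_mul, Matrix.map_mul, mul_assoc])
  have hs : Function.Surjective ψ := by
    rintro ⟨x, hx⟩
    rw [show C = _ from cent_eq hF A] at hx
    obtain ⟨h, hh, rfl⟩ := hx
    obtain ⟨u, hu⟩ := (mem_SimU hF hn A h).1 hh
    obtain ⟨M, c, z, hz, hM, hhX, -⟩ := sim_of_conj hF hι (by omega) hA hA hu
    exact ⟨⟨M, (Known.AutPSLn.Invol.mem_Sim G M).2 ⟨c, hM⟩⟩, Subtype.ext (key ⟨M, _⟩ h z hhX).symm⟩
  have hker : ψ.ker = (Cfsg.Geo.scalars (Fin n) F₀).subgroupOf S := by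
    ext M
    rw [MonoidHom.mem_ker, Subgroup.mem_subgroupOf, Subtype.ext_iff, Cfsg.Geo.mem_scalars_iff]
    show (conjU (f M) : MulAut Qn) = 1 ↔ _
    rw [conjU_eq_one_iff hF hn]
    obtain ⟨z, hz, e⟩ := hfz M
    constructor
    · rintro ⟨w, hw⟩
      rw [hw, coe_scU, smul_mul_assoc, one_mul] at e
      have e1 : (((M : GL₀) : M₀).map ι) = (z⁻¹ * ((w : Fˣ) : F)) • (1 : Mn) := by
        refine X.isUnit.mul_left_cancel ?_
        rw [mul_smul_comm, mul_one, mul_smul, e, smul_smul, inv_mul_cancel₀ hz, one_smul]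
      have hd : ((M : GL₀) : M₀) ⟨0, by omega⟩ ⟨0, by omega⟩ ≠ 0 := fun h0 => by
        have e2 : ι (((M : GL₀) : M₀) ⟨0, by omega⟩ ⟨0, by omega⟩) = (z⁻¹ * ((w : Fˣ) : F)) * 1 := by
          simpa using congrFun (congrFun e1 ⟨0, by omega⟩) ⟨0, by omega⟩
        rw [h0, map_zero, mul_one] at e2
        exact mul_ne_zero (inv_ne_zero hz) (w : Fˣ).ne_zero e2.symm
      refine ⟨Units.mk0 _ hd, Matrix.map_injective ι.injective ?_⟩
      show ((M : GL₀) : M₀).map ι = ((((M : GL₀) : M₀) ⟨0, _⟩ ⟨0, _⟩) • (1 : M₀)).map ι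
      rw [e1]
      ext i j
      have e2 := congrFun (congrFun e1 ⟨0, by omega⟩) ⟨0, by omega⟩
      simp only [Matrix.map_apply, Matrix.smul_apply, Matrix.one_apply_eq, smul_eq_mul, mul_one] at e2
      by_cases hij : i = j <;> simp [hij, e2]
    · rintro ⟨c, hc⟩
      have e1 : ((f M : GLn) : Mn) = (z * ι (c : F₀)) • (((1 : GUn) : GLn) : Mn) := by
        refine X.isUnit.mul_right_cancel ?_
        rw [e, hc]
        show _ = ((z * ι (c : F₀)) • (1 : Mn)) * (X : Mn)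
        rw [show ((c : F₀) • (1 : M₀)).map ι = ι (c : F₀) • (1 : Mn) by
          ext i j; by_cases hij : i = j <;> simp [hij]]
        rw [mul_smul_comm, mul_one, smul_mul_assoc, one_mul, smul_smul]
      obtain ⟨w, -, hw⟩ := scalar_N1 hF (by omega) e1
      exact ⟨w, by rw [hw, mul_one]⟩
  exact ⟨((QuotientGroup.quotientMulEquivOfEq hker.symm).trans
    (QuotientGroup.quotientKerEquivOfSurjective ψ hs)).symm⟩

omit hι in
/-- Corresponding automorphisms. -/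
def Rel (ι : F₀ →+* F) (γ : MulAut Qn) (δ : MulAut P₀) : Prop :=
  ∃ (A : GUn) (G : GL₀) (X : GLn) (la d : F), γ = gamU hF A ∧ δ = Known.AutPSLn.Invol.gam G ∧
    IsDesc hF ι A G X la d

theorem exists_rel (hn : 3 ≤ n) {γ : MulAut Qn} (hγ : Cfsg.IsGraphAutClassPSU γ) (hγ2 : orderOf γ = 2) :
    ∃ δ : MulAut P₀, Cfsg.IsGraphAutClassPSL δ ∧ orderOf δ = 2 ∧ Rel hF ι γ δ := by
  obtain ⟨A, rfl⟩ := exists_gamU hF hn hγ hγ2
  rcases (orderOf_gamU hF hn A).1 hγ2 with h | h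
  · obtain ⟨G, X, la, d, hG, hD⟩ := exists_desc hF ι (by omega) A (ε := 1) (ε₀ := 1) (.inl rfl) (map_one ι) hι
      (by rw [h, one_smul])
    exact ⟨_, Known.AutPSLn.Invol.isGraph_gam hn G,
      (Known.AutPSLn.Invol.orderOf_gam hn G).2 (.inl (by rw [hG, one_smul])), A, G, X, la, d, rfl, rfl, hD⟩
  · obtain ⟨G, X, la, d, hG, hD⟩ := exists_desc hF ι (by omega) A (ε := -1) (ε₀ := -1) (.inr rfl)
      (by rw [map_neg, map_one]) hι (by rw [h, neg_one_smul])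
    exact ⟨_, Known.AutPSLn.Invol.isGraph_gam hn G,
      (Known.AutPSLn.Invol.orderOf_gam hn G).2 (.inr (by rw [hG, neg_one_smul])), A, G, X, la, d, rfl, rfl, hD⟩

theorem exists_rel' (hn : 3 ≤ n) {δ : MulAut P₀} (hδ : Cfsg.IsGraphAutClassPSL δ) (hδ2 : orderOf δ = 2) :
    ∃ γ : MulAut Qn, Cfsg.IsGraphAutClassPSU γ ∧ orderOf γ = 2 ∧ Rel hF ι γ δ := by
  obtain ⟨G, rfl⟩ := Known.AutPSLn.Invol.exists_gam hδ
  rcases (Known.AutPSLn.Invol.orderOf_gam hn G).1 hδ2 with h | h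
  · obtain ⟨A, X, la, d, hA, hD⟩ := exists_gu hF ι (by omega) G (ε := 1) (ε₀ := 1) (.inl rfl) (map_one ι) hι
      (by rw [h, one_smul])
    exact ⟨_, isGraph_gamU hF hn A, (orderOf_gamU hF hn A).2 (.inl (by rw [hA, one_smul])),
      A, G, X, la, d, rfl, rfl, hD⟩
  · obtain ⟨A, X, la, d, hA, hD⟩ := exists_gu hF ι (by omega) G (ε := -1) (ε₀ := -1) (.inr rfl)
      (by rw [map_neg, map_one]) hι (by rw [h, neg_one_smul])
    exact ⟨_, isGraph_gamU hF hn A, (orderOf_gamU hF hn A).2 (.inr (by rw [hA, neg_one_smul])),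
      A, G, X, la, d, rfl, rfl, hD⟩

theorem rel_conj (hn : 3 ≤ n) {γ γ' : MulAut Qn} {δ δ' : MulAut P₀} (h : Rel hF ι γ δ) (h' : Rel hF ι γ' δ') :
    Cfsg.IsConjUnder (Cfsg.inndiagPSU n F q) γ γ' ↔ Cfsg.IsConjUnder (Cfsg.inndiagPSL n F₀) δ δ' := by
  obtain ⟨A, G, X, la, d, rfl, rfl, hA⟩ := h
  obtain ⟨B, H, Y, mu, e, rfl, rfl, hB⟩ := h'
  constructor
  · rintro ⟨x, hx, ex⟩
    rw [inndiag_eq] at hx
    obtain ⟨g, rfl⟩ := hx
    rw [conj_gamU, gamU_eq_iff hF hn] at ex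
    obtain ⟨u, hu⟩ := ex
    rw [coe_congrU] at hu
    -- `g A gᵀ` is a multiple of `B`
    obtain ⟨w, hw⟩ : ∃ w : F, ((g : GLn) : Mn) * ((A : GLn) : Mn) * ((g : GLn) : Mn)ᵀ = w • ((B : GLn) : Mn) :=
      ⟨u, hu⟩
    obtain ⟨M, c, z, -, hM, -, -⟩ := sim_of_conj hF hι (by omega) hA hB hw
    have hc : Cfsg.IsConjUnder (Cfsg.inndiagPSL n F₀) (Known.AutPSLn.Invol.gam H) (Known.AutPSLn.Invol.gam G) :=
      (Known.AutPSLn.Invol.isConjUnder_gam_iff (by omega) H G).2 ⟨Known.AutPSLn.glInvT M⁻¹, c, by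
        rw [Known.AutPSLn.coe_glInvT, inv_inv, transpose_transpose, hM]⟩
    obtain ⟨k, hk, ek⟩ := hc
    exact ⟨k⁻¹, inv_mem hk, by rw [ek]; group⟩
  · rintro ⟨k, hk, ek⟩
    obtain ⟨g, u, hu⟩ := (Known.AutPSLn.Invol.isConjUnder_gam_iff (by omega) H G).1
      ⟨k⁻¹, inv_mem hk, by rw [ek]; group⟩
    obtain ⟨h, z, w, -, -, hw⟩ := conj_of_sim hF hι (by omega) hA hB (Known.AutPSLn.glInvT g⁻¹) (c := u) (by
      rw [Known.AutPSLn.coe_glInvT, inv_inv, transpose_transpose, hu])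
    refine ⟨conjU h, inndiag_eq (n := n) (F := F) (q := q) ▸ ⟨h, rfl⟩, ?_⟩
    rw [conj_gamU, gamU_eq_iff hF hn]
    exact ⟨w, by rw [coe_congrU, hw]⟩

theorem rel_cent (hn : 3 ≤ n) {γ : MulAut Qn} {δ : MulAut P₀} (h : Rel hF ι γ δ) :
    Nonempty (↥(Cfsg.inndiagPSU n F q ⊓ Subgroup.centralizer {γ}) ≃*
      ↥(Cfsg.inndiagPSL n F₀ ⊓ Subgroup.centralizer {δ})) := by
  obtain ⟨A, G, X, la, d, rfl, rfl, hA⟩ := h
  obtain ⟨e⟩ := cent_equivU hF hι hn hA
  obtain ⟨e'⟩ := Known.AutPSLn.Invol.cent_equiv (n := n) (by omega)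
    (show Known.AutPSLn.Invol.HasFrame G (Known.AutPSLn.Invol.formOf (G : M₀)) from
      ⟨LinearEquiv.refl F₀ _, 1, one_ne_zero, fun x y => by rw [one_mul]; rfl⟩)
  exact ⟨e.trans e'.symm⟩

end Cfsg.Lib.Unitary.Invol
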