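import Cfsg.Agent.Known.Unit.Invol.Split
import Cfsg.Agent.Known.AutPSLn.Invol.Main
import Cfsg.Agent.Known.AutPSLn.Invol.InvTranspose

/-!
Classes of involutory graph automorphisms of `PSU_n(q)`.
-/

set_option autoImplicit false
set_option linter.unusedSectionVars false
set_option linter.style.haveILetI false
set_option linter.unusedVariables false

namespace Cfsg.Lib.Unitary.Invol

open Matrix Cfsg.Lib.Classical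
open Cfsg.Lib.Known (AutPSLn.eq_graphP)

universe u v

variable {F : Type u} [Field F] [Fintype F] {n q : ℕ} (hF : Fintype.card F = q ^ 2)
  {F₀ : Type v} [Field F₀] [Fintype F₀] (hF₀ : Fintype.card F₀ = q)

local notation "Qn" => Cfsg.PSU n F q

include hF hF₀

theorem odd_dim (hn : 3 ≤ n) {m : ℕ} (hnm : n = 2 * m + 1) (γ γ' : MulAut Qn) (hγ : Cfsg.IsGraphAutClassPSU γ)
    (hγ2 : orderOf γ = 2) (hγ' : Cfsg.IsGraphAutClassPSU γ') (hγ'2 : orderOf γ' = 2) :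
    Nonempty (↥(Cfsg.inndiagPSU n F q ⊓ Subgroup.centralizer {γ}) ≃* Cfsg.PGO F₀ (Cfsg.quadFormOdd m F₀)) ∧
      Cfsg.IsConjUnder (Cfsg.inndiagPSU n F q) γ γ' := by
  obtain ⟨ι, hι⟩ := exists_subfield hF hF₀
  obtain ⟨δ, hδ, hδ2, h⟩ := exists_rel hF hι hn hγ hγ2
  obtain ⟨δ', hδ', hδ'2, h'⟩ := exists_rel hF hι hn hγ' hγ'2
  obtain ⟨⟨e⟩, hc⟩ := Known.AutPSLn.Invol.odd_dim hn hnm δ δ' hδ hδ2 hδ' hδ'2
  obtain ⟨e'⟩ := rel_cent hF hι hn h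
  exact ⟨⟨e'.trans e⟩, (rel_conj hF hι hn h h').2 hc⟩

theorem even_odd (hodd : Odd q) {m : ℕ} (hm : 2 ≤ m) (hnm : n = 2 * m) :
    ∃ (γ₁ γ₂ γ₃ : MulAut Qn) (a b : F₀),
      (∀ z₁ z₂ : F₀, z₁ ^ 2 + a * z₁ * z₂ + b * z₂ ^ 2 = 0 → z₁ = 0 ∧ z₂ = 0) ∧
      Cfsg.IsGraphAutClassPSU γ₁ ∧ orderOf γ₁ = 2 ∧ Cfsg.IsGraphAutClassPSU γ₂ ∧ orderOf γ₂ = 2 ∧
      Cfsg.IsGraphAutClassPSU γ₃ ∧ orderOf γ₃ = 2 ∧ ¬ Cfsg.IsConjUnder (Cfsg.inndiagPSU n F q) γ₁ γ₂ ∧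
      ¬ Cfsg.IsConjUnder (Cfsg.inndiagPSU n F q) γ₁ γ₃ ∧ ¬ Cfsg.IsConjUnder (Cfsg.inndiagPSU n F q) γ₂ γ₃ ∧
      (∀ γ : MulAut Qn, Cfsg.IsGraphAutClassPSU γ → orderOf γ = 2 →
        Cfsg.IsConjUnder (Cfsg.inndiagPSU n F q) γ₁ γ ∨ Cfsg.IsConjUnder (Cfsg.inndiagPSU n F q) γ₂ γ ∨
          Cfsg.IsConjUnder (Cfsg.inndiagPSU n F q) γ₃ γ) ∧
      Nonempty (↥(Cfsg.inndiagPSU n F q ⊓ Subgroup.centralizer {γ₁}) ≃* Cfsg.PGSp m F₀) ∧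
      Nonempty (↥(Cfsg.inndiagPSU n F q ⊓ Subgroup.centralizer {γ₂}) ≃* Cfsg.PGO F₀ (Cfsg.quadFormPlus m F₀)) ∧
      Nonempty (↥(Cfsg.inndiagPSU n F q ⊓ Subgroup.centralizer {γ₃}) ≃*
        Cfsg.PGO F₀ (Cfsg.quadFormMinus (m - 1) F₀ a b)) := by
  have hn : 3 ≤ n := by omega
  obtain ⟨ι, hι⟩ := exists_subfield hF hF₀
  obtain ⟨d₁, d₂, d₃, a, b, hab, g₁, o₁, g₂, o₂, g₃, o₃, n₁₂, n₁₃, n₂₃, hall, ⟨e₁⟩, ⟨e₂⟩, ⟨e₃⟩⟩ :=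
    Known.AutPSLn.Invol.even_odd (F := F₀) (n := n) (by rw [hF₀]; exact hodd) hm hnm
  obtain ⟨γ₁, G₁, O₁, h₁⟩ := exists_rel' hF hι hn g₁ o₁
  obtain ⟨γ₂, G₂, O₂, h₂⟩ := exists_rel' hF hι hn g₂ o₂
  obtain ⟨γ₃, G₃, O₃, h₃⟩ := exists_rel' hF hι hn g₃ o₃
  obtain ⟨f₁⟩ := rel_cent hF hι hn h₁
  obtain ⟨f₂⟩ := rel_cent hF hι hn h₂
  obtain ⟨f₃⟩ := rel_cent hF hι hn h₃
  refine ⟨γ₁, γ₂, γ₃, a, b, hab, G₁, O₁, G₂, O₂, G₃, O₃, fun h => n₁₂ ((rel_conj hF hι hn h₁ h₂).1 h),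
    fun h => n₁₃ ((rel_conj hF hι hn h₁ h₃).1 h), fun h => n₂₃ ((rel_conj hF hι hn h₂ h₃).1 h),
    fun γ hγ hγ2 => ?_, ⟨f₁.trans e₁⟩, ⟨f₂.trans e₂⟩, ⟨f₃.trans e₃⟩⟩
  obtain ⟨δ, hδ, hδ2, h⟩ := exists_rel hF hι hn hγ hγ2
  rcases hall δ hδ hδ2 with e | e | e
  · exact .inl ((rel_conj hF hι hn h₁ h).2 e)
  · exact .inr (.inl ((rel_conj hF hι hn h₂ h).2 e))
  · exact .inr (.inr ((rel_conj hF hι hn h₃ h).2 e))

theorem even_two [CharP F 2] {m : ℕ} (hm : 2 ≤ m) (hnm : n = 2 * m) :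
    ∃ (γ₁ γ₃ : MulAut Qn) (t : ↥(Matrix.symplecticGroup (Fin m) F₀)),
      Cfsg.IsTransvection (t : Matrix (Fin m ⊕ Fin m) (Fin m ⊕ Fin m) F₀) ∧ Cfsg.IsGraphAutClassPSU γ₁ ∧
      orderOf γ₁ = 2 ∧ Cfsg.IsGraphAutClassPSU γ₃ ∧ orderOf γ₃ = 2 ∧
      ¬ Cfsg.IsConjUnder (Cfsg.inndiagPSU n F q) γ₁ γ₃ ∧
      (∀ γ : MulAut Qn, Cfsg.IsGraphAutClassPSU γ → orderOf γ = 2 →
        Cfsg.IsConjUnder (Cfsg.inndiagPSU n F q) γ₁ γ ∨ Cfsg.IsConjUnder (Cfsg.inndiagPSU n F q) γ₃ γ) ∧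
      Nonempty (↥(Cfsg.inndiagPSU n F q ⊓ Subgroup.centralizer {γ₁}) ≃* ↥(Matrix.symplecticGroup (Fin m) F₀)) ∧
      Nonempty (↥(Cfsg.inndiagPSU n F q ⊓ Subgroup.centralizer {γ₃}) ≃*
        ↥(Subgroup.centralizer ({t} : Set ↥(Matrix.symplecticGroup (Fin m) F₀)))) := by
  have hn : 3 ≤ n := by omega
  obtain ⟨ι, hι⟩ := exists_subfield hF hF₀
  haveI : CharP F₀ 2 := (RingHom.charP_iff ι ι.injective 2).2 inferInstance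
  obtain ⟨d₁, d₃, t, ht, g₁, o₁, g₃, o₃, n₁₃, hall, ⟨e₁⟩, ⟨e₃⟩⟩ :=
    Known.AutPSLn.Invol.even_two (F := F₀) (n := n) hm hnm
  obtain ⟨γ₁, G₁, O₁, h₁⟩ := exists_rel' hF hι hn g₁ o₁
  obtain ⟨γ₃, G₃, O₃, h₃⟩ := exists_rel' hF hι hn g₃ o₃
  obtain ⟨f₁⟩ := rel_cent hF hι hn h₁
  obtain ⟨f₃⟩ := rel_cent hF hι hn h₃
  refine ⟨γ₁, γ₃, t, ht, G₁, O₁, G₃, O₃, fun h => n₁₃ ((rel_conj hF hι hn h₁ h₃).1 h), fun γ hγ hγ2 => ?_,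
    ⟨f₁.trans e₁⟩, ⟨f₃.trans e₃⟩⟩
  obtain ⟨δ, hδ, hδ2, h⟩ := exists_rel hF hι hn hγ hγ2
  rcases hall δ hδ hδ2 with e | e
  · exact .inl ((rel_conj hF hι hn h₁ h).2 e)
  · exact .inr ((rel_conj hF hι hn h₃ h).2 e)

theorem splitting (hn : 3 ≤ n) (γ : MulAut Qn) (hγ : Cfsg.IsGraphAutClassPSU γ) (hγ2 : orderOf γ = 2) :
    ((Even n ∧ Odd q ∧ Nonempty (↥(Cfsg.inndiagPSU n F q ⊓ Subgroup.centralizer {γ}) ≃* Cfsg.PGSp (n / 2) F₀)) →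
      Cfsg.splitClassCount (Cfsg.inndiagPSU n F q) (Cfsg.Inn Qn) γ = Nat.gcd (n / 2) (q + 1)) ∧
    ((Even n ∧ Odd q ∧ ¬ Nonempty (↥(Cfsg.inndiagPSU n F q ⊓ Subgroup.centralizer {γ}) ≃* Cfsg.PGSp (n / 2) F₀)) →
      Cfsg.splitClassCount (Cfsg.inndiagPSU n F q) (Cfsg.Inn Qn) γ = Nat.gcd n (q + 1) / 2) ∧
    (¬ (Even n ∧ Odd q) →
      Cfsg.splitClassCount (Cfsg.inndiagPSU n F q) (Cfsg.Inn Qn) γ = Nat.gcd n (q + 1)) := by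
  obtain ⟨ι, hι⟩ := exists_subfield hF hF₀
  obtain ⟨δ, hδ, hδ2, h⟩ := exists_rel hF hι hn hγ hγ2
  obtain ⟨f⟩ := rel_cent hF hι hn h
  obtain ⟨A, G, X, la, d, rfl, rfl, hD⟩ := h
  have hG := (Known.AutPSLn.Invol.orderOf_gam hn G).1 hδ2
  rw [split_gamU hF hn]
  refine ⟨?_, ?_, ?_⟩
  · rintro ⟨he, hp, ⟨e⟩⟩
    obtain ⟨m, hnm⟩ := even_iff_exists_two_mul.1 he
    have hodd : Odd (Fintype.card F₀) := by rw [hF₀]; exact hp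
    have h2m : n / 2 = m := by omega
    rw [h2m]
    rcases hG with hG | hG
    · exact (Known.AutPSLn.Invol.no_iso hodd hn hnm hG ⟨f.symm.trans (h2m ▸ e)⟩).elim
    · obtain ⟨k, hk, hs⟩ := Known.AutPSLn.Invol.frame_symp G
        (Known.AutPSLn.Invol.alt_of_neg (Refl.two_ne_zero_of_odd hodd) hG)
      obtain rfl : k = m := by omega
      rw [detU_symp hF hι hn hnm hD hs, index_powN1]
  · rintro ⟨he, hp, hiso⟩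
    obtain ⟨m, hnm⟩ := even_iff_exists_two_mul.1 he
    have hodd : Odd (Fintype.card F₀) := by rw [hF₀]; exact hp
    rcases hG with hG | hG
    · rw [detU_symm hF hι hn hnm hD (Refl.two_ne_zero_of_odd hodd) hG, index_sq_root hF hp, ← hnm]
    · obtain ⟨k, hk, hs⟩ := Known.AutPSLn.Invol.frame_symp G
        (Known.AutPSLn.Invol.alt_of_neg (Refl.two_ne_zero_of_odd hodd) hG)
      obtain rfl : k = m := by omega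
      rw [show n / 2 = k by omega] at hiso
      obtain ⟨e⟩ := Known.AutPSLn.Invol.cent_equiv (n := n) (by omega) hs
      exact absurd ⟨f.trans e⟩ hiso
  · intro h
    rw [detU_eq_of_odd hF hn A ?_, index_powN1]
    by_contra hc
    push Not at hc
    refine h ⟨Nat.not_odd_iff_even.1 hc.1, ?_⟩
    by_contra hq
    refine hc.2 ?_
    obtain ⟨p, hp⟩ := CharP.exists F
    obtain ⟨k, hpr, hk⟩ := FiniteField.card F p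
    have h2 : p = 2 := by
      obtain ⟨r, hr⟩ := Nat.not_odd_iff_even.1 hq
      have : 2 ∣ p ^ (k : ℕ) := by rw [← hk, hF]; exact dvd_pow ⟨r, by omega⟩ two_ne_zero
      exact ((Nat.prime_dvd_prime_iff_eq Nat.prime_two hpr).1 (Nat.prime_two.dvd_of_dvd_pow this)).symm
    subst h2
    exact CharTwo.two_eq_zero

theorem frobenius (hodd : Odd q) {m : ℕ} (hm : 2 ≤ m) (hnm : n = 2 * m) (h4 : 4 ∣ n) (σ : F ≃+* F)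
    (hσ : ∀ a : F, σ a = a ^ q) (φ : MulAut Qn) (hφ : Cfsg.IsFieldAutPSUOf σ φ) :
    Nonempty (↥(Cfsg.inndiagPSU n F q ⊓ Subgroup.centralizer {φ}) ≃* Cfsg.PGO F₀ (Cfsg.quadFormPlus m F₀)) := by
  have hn : 3 ≤ n := by omega
  obtain ⟨ι, hι⟩ := exists_subfield hF hF₀
  obtain rfl : σ = tauE hF := RingEquiv.ext fun a => by rw [hσ, tauE_apply, powConj_apply]
  have e1 : φ = gamU hF (1 : Cfsg.GU n F q) := by rw [gamU, map_one, one_mul, eq_fieldU hφ]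
  have hrel : Rel hF ι φ (Known.AutPSLn.Invol.gam (1 : GL (Fin n) F₀)) := by
    refine ⟨1, 1, 1, 1, 1, e1, rfl, one_ne_zero, one_ne_zero, ?_, ?_⟩
    · simp [bar_one]
    · simp [bar_one]
  obtain ⟨f⟩ := rel_cent hF hι hn hrel
  obtain ⟨e⟩ := (Known.AutPSLn.Invol.inv_transpose (F := F₀) (by rw [hF₀]; exact hodd) hm hnm
    (Known.AutPSLn.Invol.gam (1 : GL (Fin n) F₀))
    (by rw [Known.AutPSLn.Invol.gam, map_one, one_mul]; exact Known.AutPSLn.isInverseTranspose_graphP)).1 (by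
      rw [hF₀]
      obtain ⟨k, rfl⟩ := hodd
      obtain ⟨r, hr⟩ := h4
      rw [show n * (2 * k + 1 - 1) / 4 = 2 * (r * k) by
        rw [hr, show 2 * k + 1 - 1 = 2 * k by omega, show 4 * r * (2 * k) = 4 * (2 * (r * k)) by ring]
        exact Nat.mul_div_cancel_left _ (by norm_num)]
      exact even_two_mul _)
  exact ⟨f.trans e⟩

end Cfsg.Lib.Unitary.Invol
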