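import Cfsg.Agent.Known.Unit.Invol.Corr
import Cfsg.Agent.Known.AutPSLn.Invol.Odd

/-!
How the class of an involutory graph automorphism of `PSU_n(q)` splits.
-/

set_option autoImplicit false
set_option linter.unusedSectionVars false
set_option linter.style.haveILetI false
set_option linter.unusedVariables false
set_option linter.unusedSimpArgs false

namespace Cfsg.Lib.Unitary.Invol

open Matrix Cfsg.Lib.Classical

universe u v

variable {F : Type u} [Field F] [Fintype F] {n q : ℕ} (hF : Fintype.card F = q ^ 2)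

local notation "Mn" => Matrix (Fin n) (Fin n) F
local notation "GLn" => GL (Fin n) F
local notation "GUn" => Cfsg.GU n F q
local notation "Qn" => Cfsg.PSU n F q

/-- Determinants of the centralising unitary matrices. -/
noncomputable abbrev detU (A : GUn) : Subgroup (N1 hF) := (SimU hF A).map (guDet hF)

theorem split_gamU (hn : 3 ≤ n) (A : GUn) :
    Cfsg.splitClassCount (Cfsg.inndiagPSU n F q) (Cfsg.Inn Qn) (gamU hF A) = (detU hF A).index := by
  rw [inn_eq_map hF, inndiag_eq]
  exact Known.AutPSLn.Invol.split_count conjU (guDet hF) (fun u => ⟨_, guDet_dfst hF (⟨0, by omega⟩ : Fin n) u⟩)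
    (gamU hF A) (SimU hF A) fun g => by rw [SimU, Subgroup.mem_comap, Subgroup.mem_centralizer_singleton_iff]

theorem index_powN1 (k : ℕ) :
    (powMonoidHom k : N1 hF →* N1 hF).range.index = Nat.gcd k (q + 1) := by
  rw [IsCyclic.index_powMonoidHom_range, card_N1, Nat.gcd_comm]

theorem scalar_mem (hn : 3 ≤ n) (A : GUn) (u : N1 hF) : u ^ n ∈ detU hF A := by
  refine ⟨scU hF u, (mem_SimU hF hn A _).2 ⟨((u : Fˣ) : F) * ((u : Fˣ) : F), ?_⟩, guDet_scU hF u⟩
  rw [coe_scU, transpose_smul, transpose_one, smul_mul_assoc, one_mul, mul_smul_comm, mul_one, smul_smul]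

theorem detU_sq (hn : 3 ≤ n) {A h : GUn} (hh : h ∈ SimU hF A) : ∃ u : N1 hF, guDet hF h ^ 2 = u ^ n := by
  obtain ⟨u, hu⟩ := (mem_SimU hF hn A h).1 hh
  obtain ⟨w, hw, -⟩ := scalar_N1 hF (by omega) (A := A) (B := h * A * guAut (tauE hF) h⁻¹) (u := u)
    (by rw [coe_congrU, hu])
  refine ⟨w, Subtype.ext (Units.ext ?_)⟩
  simp only [SubmonoidClass.coe_pow, Units.val_pow_eq_pow_val, coe_guDet, hw]
  have := congrArg Matrix.det hu
  rw [det_mul, det_mul, det_transpose, det_smul, Fintype.card_fin] at this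
  exact mul_right_cancel₀ ((Matrix.isUnit_iff_isUnit_det _).1 (A : GLn).isUnit).ne_zero (by linear_combination this)

theorem detU_eq_of_odd (hn : 3 ≤ n) (A : GUn) (h : Odd n ∨ (2 : F) = 0) :
    detU hF A = (powMonoidHom n : N1 hF →* N1 hF).range := by
  refine le_antisymm ?_ ?_
  · rintro _ ⟨g, hg, rfl⟩
    obtain ⟨c, h2⟩ := detU_sq hF hn hg
    set d := guDet hF g
    rcases h with hodd | h
    · obtain ⟨k, hk⟩ := hodd
      set e := d * (c ^ k)⁻¹ with he
      have hce : c = e ^ 2 := by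
        rw [he, mul_pow, h2, inv_pow, ← pow_mul, show c ^ n = c ^ (2 * k) * c by rw [← pow_succ]; congr 1,
          mul_comm k 2, mul_comm (c ^ (2 * k)), mul_inv_cancel_right]
      rw [hce, ← pow_mul, mul_comm, pow_mul] at h2
      rcases sq_eq_sq_iff_eq_or_eq_neg.1 (congrArg (fun z : N1 hF => ((z : Fˣ) : F)) h2 |> fun t => by
        simpa only [SubmonoidClass.coe_pow, Units.val_pow_eq_pow_val] using t :
          ((d : Fˣ) : F) ^ 2 = (((e : Fˣ) : F) ^ n) ^ 2) with h3 | h3
      · exact ⟨e, Subtype.ext (Units.ext (by simp [h3]))⟩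
      · have hm1 : (-1 : Fˣ) ∈ N1 hF := (mem_N1 hF _).2 (by simp)
        exact ⟨⟨-1, hm1⟩ * e, Subtype.ext (Units.ext (by
          simp [h3, Odd.neg_pow (show Odd n from ⟨k, hk⟩)]))⟩
    · haveI : CharP F 2 := CharTwo.of_one_ne_zero_of_two_eq_zero one_ne_zero h
      have hinj : Function.Injective (fun x : N1 hF => x ^ 2) := fun x y e => by
        have e1 := congrArg (fun z : N1 hF => ((z : Fˣ) : F)) e
        simp only [SubmonoidClass.coe_pow, Units.val_pow_eq_pow_val] at e1
        exact Subtype.ext (Units.ext (CharTwo.sq_injective e1))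
      obtain ⟨e, he⟩ := (Finite.injective_iff_surjective.1 hinj) c
      refine ⟨e, hinj ?_⟩
      show (e ^ n) ^ 2 = d ^ 2
      rw [h2, ← show e ^ 2 = c from he, ← pow_mul, ← pow_mul, mul_comm]
  · rintro _ ⟨u, rfl⟩
    exact scalar_mem hF hn A u

theorem index_sq_root (hodd : Odd q) (m : ℕ) :
    (((powMonoidHom (2 * m) : N1 hF →* N1 hF).range).comap (powMonoidHom 2)).index =
      Nat.gcd (2 * m) (q + 1) / 2 := by
  have hle : (powMonoidHom (2 * m) : N1 hF →* N1 hF).range ≤ (powMonoidHom 2 : N1 hF →* N1 hF).range := by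
    rintro _ ⟨u, rfl⟩
    exact ⟨u ^ m, by simp [← pow_mul, mul_comm]⟩
  rw [Subgroup.index_comap, ← index_powN1 hF (2 * m), ← Subgroup.relIndex_mul_index hle, index_powN1 hF 2]
  obtain ⟨k, hk⟩ := hodd
  rw [show Nat.gcd 2 (q + 1) = 2 from Nat.gcd_eq_left ⟨k + 1, by omega⟩, Nat.mul_div_cancel _ (by norm_num)]

variable {F₀ : Type v} [Field F₀] [Fintype F₀] {ι : F₀ →+* F}

local notation "M₀" => Matrix (Fin n) (Fin n) F₀
local notation "GL₀" => GL (Fin n) F₀

variable (hι : ∀ x, powConj hF x = x ↔ x ∈ Set.range ι)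
include hι

/-- The unitary matrix of a similarity. -/
theorem exists_det (hn : 3 ≤ n) {A : GUn} {G : GL₀} {X : GLn} {la d : F} (hA : IsDesc hF ι A G X la d) (M : GL₀)
    {c : F₀ˣ} (hM : (M : M₀)ᵀ * (G : M₀) * (M : M₀) = (c : F₀) • (G : M₀)) :
    ∃ (h : GUn) (z : F), h ∈ SimU hF A ∧ z * powConj hF z * ι c = 1 ∧
      (((guDet hF h : N1 hF) : Fˣ) : F) = z ^ n * ι (M : M₀).det := by
  obtain ⟨h, z, u, hz, hhX, hu⟩ := conj_of_sim hF hι (by omega) hA hA M hM
  refine ⟨h, z, (mem_SimU hF hn A h).2 ⟨u, hu⟩, ?_, ?_⟩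
  · obtain ⟨-, hd0, -, hXG⟩ := hA
    have e : d • (G : M₀).map ι = (z * powConj hF z * ι c) • (d • (G : M₀).map ι) := by
      rw [← hXG]
      calc (bar hF (X : Mn))ᵀ * (X : Mn)
          = (bar hF (((h : GLn) : Mn) * (X : Mn)))ᵀ * (((h : GLn) : Mn) * (X : Mn)) := by
            rw [bar_mul, transpose_mul, mul_assoc, ← mul_assoc _ ((h : GLn) : Mn), gu_bar, one_mul]
        _ = (z * powConj hF z) • (((M : M₀).map ι)ᵀ * ((bar hF (X : Mn))ᵀ * (X : Mn)) * (M : M₀).map ι) := by
            rw [hhX, bar_smul, bar_mul, bar_map hF ι hι, transpose_smul, transpose_mul]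
            simp only [smul_mul_assoc, mul_smul_comm, smul_smul, mul_assoc]
        _ = _ := by
            rw [hXG]
            have := congrArg (fun K : M₀ => K.map ι) hM
            simp only [Matrix.map_mul, transpose_map] at this
            rw [mul_smul_comm, smul_mul_assoc, this]
            ext a b
            simp
            ring
    have hne : d • (G : M₀).map ι ≠ 0 := by
      haveI : Nonempty (Fin n) := ⟨⟨0, by omega⟩⟩
      intro h0
      refine G.isUnit.ne_zero (Matrix.ext fun i j => ?_)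
      have e1 : d * ι ((G : M₀) i j) = 0 := congrFun (congrFun h0 i) j
      exact (map_eq_zero ι).1 ((mul_eq_zero.1 e1).resolve_left hd0)
    have e2 : ((z * powConj hF z * ι c) - 1) • (d • (G : M₀).map ι) = 0 := by rw [sub_smul, one_smul, ← e, sub_self]
    exact sub_eq_zero.1 ((smul_eq_zero.1 e2).resolve_right hne)
  · rw [coe_guDet]
    have := congrArg Matrix.det hhX
    rw [det_mul, det_smul, det_mul, Fintype.card_fin, show ((M : M₀).map ι).det = ι (M : M₀).det from
      (RingHom.map_det ι _).symm] at this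
    exact mul_right_cancel₀ ((Matrix.isUnit_iff_isUnit_det _).1 X.isUnit).ne_zero (by linear_combination this)

omit hι in
theorem div_mem_N1 {z : F} (hz : z ≠ 0) :
    Units.mk0 (z / powConj hF z) (div_ne_zero hz ((map_ne_zero _).2 hz)) ∈ N1 hF := by
  rw [mem_N1, Units.val_mk0, map_div₀, (powConj_isConj hF).invol]
  have := (map_ne_zero (powConj hF)).2 hz
  field_simp

theorem detU_symp (hn : 3 ≤ n) {m : ℕ} (hnm : n = 2 * m) {A : GUn} {G : GL₀} {X : GLn} {la d : F}
    (hA : IsDesc hF ι A G X la d) (hG : Known.AutPSLn.Invol.HasFrame G (Cfsg.sympForm m F₀)) :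
    detU hF A = (powMonoidHom m : N1 hF →* N1 hF).range := by
  obtain ⟨L, k, hk, hL⟩ := hG
  -- similarities and their determinants
  have hsim : ∀ (g : GL (Fin m ⊕ Fin m) F₀) (c : F₀ˣ),
      (∀ u v, Cfsg.sympForm m F₀ ((g : Matrix _ _ F₀) *ᵥ u) ((g : Matrix _ _ F₀) *ᵥ v) = c * Cfsg.sympForm m F₀ u v) ↔
      ((Known.AutPSLn.Invol.trL L g : GL₀) : M₀)ᵀ * (G : M₀) * (Known.AutPSLn.Invol.trL L g : GL₀) =
        (c : F₀) • (G : M₀) := by
    intro g c
    constructor
    · intro hg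
      refine Known.AutPSLn.Invol.formOf_ext fun x y => ?_
      obtain ⟨x, rfl⟩ := L.surjective x
      obtain ⟨y, rfl⟩ := L.surjective y
      rw [← Known.AutPSLn.Invol.formOf_mulVec, Known.AutPSLn.Invol.trL_mulVec', Known.AutPSLn.Invol.trL_mulVec',
        hL, hg, Known.AutPSLn.Invol.formOf_smul, hL]
      ring
    · intro hg u v
      have := congrArg (fun K => Known.AutPSLn.Invol.formOf K (L u) (L v)) hg
      simp only [← Known.AutPSLn.Invol.formOf_mulVec, Known.AutPSLn.Invol.trL_mulVec', hL,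
        Known.AutPSLn.Invol.formOf_smul] at this
      exact mul_left_cancel₀ hk (by linear_combination this)
  have hdet : ∀ (M : GL₀) (c : F₀ˣ), (M : M₀)ᵀ * (G : M₀) * (M : M₀) = (c : F₀) • (G : M₀) →
      (M : M₀).det = (c : F₀) ^ m := by
    intro M c hM
    obtain ⟨g, rfl⟩ := (Known.AutPSLn.Invol.trL L).surjective M
    obtain ⟨hd, S, rfl⟩ := Known.AutPSLn.Invol.gsp_dec ((hsim g c).2 hM)
    rw [show ((Known.AutPSLn.Invol.trL L (GeneralLinearGroup.mkOfDetNeZero _ hd * Known.AutPSLn.Invol.spToGL S) :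
      GL₀) : M₀).det = _ from congrArg Units.val (Known.AutPSLn.Invol.det_trL L _), map_mul, Units.val_mul]
    show (Matrix.fromBlocks ((c : F₀) • (1 : Matrix (Fin m) (Fin m) F₀)) 0 0 1).det * (S : Matrix (Fin m ⊕ Fin m) (Fin m ⊕ Fin m) F₀).det = _
    rw [SymplecticGroup.det_eq_one S.2]
    simp [det_fromBlocks_zero₂₁, det_smul]
  have hpow : ∀ (z : F) (hz : z ≠ 0) (c : F₀), z * powConj hF z * ι c = 1 →
      z ^ n * (ι c) ^ m = (z / powConj hF z) ^ m := fun z hz c e => by
    have hzb := (map_ne_zero (powConj hF)).2 hz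
    rw [show z / powConj hF z = z ^ 2 * ι c by field_simp; linear_combination -e, mul_pow, ← pow_mul, hnm]
  refine le_antisymm ?_ ?_
  · rintro _ ⟨h, hh, rfl⟩
    obtain ⟨u, hu⟩ := (mem_SimU hF hn A h).1 hh
    obtain ⟨M, c, z, hz, hM, hhX, he⟩ := sim_of_conj hF hι (by omega) hA hA hu
    have hzc : z * powConj hF z * ι c = 1 := mul_left_cancel₀ hA.2.1 (by linear_combination he)
    refine ⟨⟨_, div_mem_N1 hF hz⟩, Subtype.ext (Units.ext ?_)⟩
    simp only [powMonoidHom_apply, SubmonoidClass.coe_pow, Units.val_pow_eq_pow_val, Units.val_mk0, coe_guDet]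
    have := congrArg Matrix.det hhX
    rw [det_mul, det_smul, det_mul, Fintype.card_fin, show ((M : M₀).map ι).det = ι (M : M₀).det from
      (RingHom.map_det ι _).symm, hdet M c hM, map_pow] at this
    rw [← hpow z hz c hzc]
    exact mul_right_cancel₀ ((Matrix.isUnit_iff_isUnit_det _).1 X.isUnit).ne_zero (by linear_combination -this)
  · rintro _ ⟨w, rfl⟩
    have hw := (mem_N1 hF (w : Fˣ)).1 w.2
    obtain ⟨z, hz0, hz⟩ := (powConj_isConj hF).exists_div_eq hw
    obtain ⟨c, hc⟩ := (hι (z * powConj hF z)⁻¹).1 (by rw [map_inv₀, (powConj_isConj hF).norm_mem])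
    have hc0 : c ≠ 0 := fun h0 => by
      rw [h0, map_zero] at hc
      exact inv_ne_zero (mul_ne_zero hz0 ((map_ne_zero _).2 hz0)) hc.symm
    have hd : ((Matrix.fromBlocks (c • (1 : Matrix (Fin m) (Fin m) F₀)) 0 0 1 :
        Matrix (Fin m ⊕ Fin m) (Fin m ⊕ Fin m) F₀)).det ≠ 0 := by
      simp [det_fromBlocks_zero₂₁, det_smul, hc0]
    have hgc : ∀ u v, Cfsg.sympForm m F₀
        ((GeneralLinearGroup.mkOfDetNeZero _ hd : GL (Fin m ⊕ Fin m) F₀) *ᵥ u : Fin m ⊕ Fin m → F₀)
        ((GeneralLinearGroup.mkOfDetNeZero _ hd : GL (Fin m ⊕ Fin m) F₀) *ᵥ v : Fin m ⊕ Fin m → F₀) =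
        ((Units.mk0 c hc0 : F₀ˣ) : F₀) * Cfsg.sympForm m F₀ u v := fun u v => by
      simp only [← sympBilin_eq_sympForm, sympBilin_eq_sum, GeneralLinearGroup.val_mkOfDetNeZero, fromBlocks_mulVec,
        Finset.mul_sum]
      refine Finset.sum_congr rfl fun i _ => ?_
      simp [smul_mulVec]
      ring
    set M : GL₀ := Known.AutPSLn.Invol.trL L (GeneralLinearGroup.mkOfDetNeZero _ hd)
    have hM := (hsim _ (Units.mk0 c hc0)).1 hgc
    obtain ⟨h, z', hh, hzc, hdh⟩ := exists_det hF hι hn hA M hM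
    rw [hdet M _ hM, map_pow, Units.val_mk0] at hdh
    have hz' : z' ≠ 0 := fun h0 => by rw [h0, zero_mul, zero_mul] at hzc; exact zero_ne_one hzc
    rw [hpow z' hz' c hzc] at hdh
    -- `z'` differs from `z` by a norm one unit
    have hb : z' * powConj hF z' = z * powConj hF z := by
      rw [Units.val_mk0, hc] at hzc
      exact (mul_inv_eq_one₀ (mul_ne_zero hz0 ((map_ne_zero _).2 hz0))).1 hzc
    have hv : Units.mk0 (z / z') (div_ne_zero hz0 hz') ∈ N1 hF := by
      rw [mem_N1, Units.val_mk0, map_div₀, div_mul_div_comm, hb, div_self]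
      exact mul_ne_zero hz0 ((map_ne_zero _).2 hz0)
    have hmem := mul_mem (Subgroup.mem_map_of_mem (guDet hF) hh) (scalar_mem hF hn A ⟨_, hv⟩)
    convert hmem using 1
    refine Subtype.ext (Units.ext ?_)
    simp only [powMonoidHom_apply, Subgroup.coe_mul, SubmonoidClass.coe_pow, Units.val_mul, Units.val_pow_eq_pow_val,
      Units.val_mk0, hdh]
    rw [hnm, pow_mul (z / z'), ← mul_pow]
    congr 1
    have hzb := (map_ne_zero (powConj hF)).2 hz0
    have hzb' := (map_ne_zero (powConj hF)).2 hz'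
    have hwz : ((w : Fˣ) : F) = z / powConj hF z := by rw [eq_div_iff hzb]; exact hz.symm
    rw [hwz]
    field_simp
    linear_combination hb

theorem detU_symm (hn : 3 ≤ n) {m : ℕ} (hnm : n = 2 * m) {A : GUn} {G : GL₀} {X : GLn} {la d : F}
    (hA : IsDesc hF ι A G X la d) (h2 : (2 : F₀) ≠ 0) (hG : (G : M₀)ᵀ = G) :
    detU hF A = ((powMonoidHom (2 * m) : N1 hF →* N1 hF).range).comap (powMonoidHom 2) := by
  have hnd := Known.AutPSLn.Invol.quadOf_nondeg h2 hG
  set Q := Known.AutPSLn.Invol.quadOf (G : M₀)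
  have hpol : ∀ x y, QuadraticMap.polar (⇑Q) x y = Known.AutPSLn.Invol.formOf (G : M₀) x y :=
    Known.AutPSLn.Invol.polar_quadOf h2 hG
  have hsim : ∀ (g : GL₀) (c : F₀ˣ), (∀ v, Q ((g : M₀) *ᵥ v) = (c : F₀) * Q v) →
      (g : M₀)ᵀ * (G : M₀) * (g : M₀) = (c : F₀) • (G : M₀) := fun g c h =>
    Known.AutPSLn.Invol.formOf_ext fun x y => by
      rw [← Known.AutPSLn.Invol.formOf_mulVec, Known.AutPSLn.Invol.formOf_smul, ← hpol, ← hpol]
      simp only [QuadraticMap.polar, ← Matrix.mulVec_add, h]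
      ring
  have hm1 : (-1 : Fˣ) ∈ N1 hF := (mem_N1 hF _).2 (by simp)
  have hneg : (⟨-1, hm1⟩ : N1 hF) ∈ detU hF A := by
    obtain ⟨v, hv⟩ : ∃ v, Q v ≠ 0 := by
      by_contra h
      push Not at h
      have : Pi.single ⟨0, by omega⟩ (1 : F₀) = (0 : Fin n → F₀) := hnd.1 _ fun y => by
        show QuadraticMap.polar (⇑Q) _ y = 0
        simp [QuadraticMap.polar, h]
      simpa using congrFun this ⟨0, by omega⟩
    obtain ⟨h, z, hh, hz, hd⟩ := exists_det hF hι hn hA (Refl.refl Q v hv : GL₀) (c := 1)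
      (hsim _ _ fun w => by rw [Units.val_one, one_mul]; exact (Refl.mem_iff Q).1 (Refl.refl Q v hv).2 w)
    rw [Units.val_one, map_one, mul_one] at hz
    have hz0 : z ≠ 0 := fun h0 => by rw [h0, zero_mul] at hz; exact zero_ne_one hz
    have hzn : Units.mk0 z hz0 ∈ N1 hF := (mem_N1 hF _).2 hz
    have hmem := mul_mem (Subgroup.mem_map_of_mem (guDet hF) hh)
      (inv_mem (scalar_mem hF hn A ⟨_, hzn⟩))
    convert hmem using 1
    refine Subtype.ext (Units.ext ?_)
    simp only [Subgroup.coe_mul, InvMemClass.coe_inv, SubmonoidClass.coe_pow, Units.val_mul, Units.val_inv_eq_inv_val,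
      Units.val_pow_eq_pow_val, Units.val_mk0, hd]
    rw [show ((Refl.refl Q v hv : GL₀) : M₀).det = -1 from Refl.det_eq Q v hv, map_neg, map_one, Units.val_neg,
      Units.val_one]
    field_simp
  ext w
  rw [Subgroup.mem_comap]
  constructor
  · rintro ⟨g, hg, rfl⟩
    obtain ⟨u, hu⟩ := detU_sq hF hn hg
    refine ⟨u, Subtype.ext (Units.ext ?_)⟩
    have := congrArg (fun t : N1 hF => ((t : Fˣ) : F)) hu
    simp only [SubmonoidClass.coe_pow, Units.val_pow_eq_pow_val] at this
    simp only [powMonoidHom_apply, SubmonoidClass.coe_pow, Units.val_pow_eq_pow_val, this, hnm]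
  · rintro ⟨u, hu⟩
    have hu' : ((u : Fˣ) : F) ^ (2 * m) = ((w : Fˣ) : F) ^ 2 := by
      have := congrArg (fun t : N1 hF => ((t : Fˣ) : F)) hu
      simpa only [powMonoidHom_apply, SubmonoidClass.coe_pow, Units.val_pow_eq_pow_val] using this
    have hu1 := (mem_N1 hF (u : Fˣ)).1 u.2
    obtain ⟨z, hz0, hz⟩ := (powConj_isConj hF).exists_div_eq hu1
    obtain ⟨c, hc⟩ := (hι (z * powConj hF z)⁻¹).1 (by rw [map_inv₀, (powConj_isConj hF).norm_mem])
    have hzb := (map_ne_zero (powConj hF)).2 hz0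
    have hc0 : c ≠ 0 := fun h0 => by
      rw [h0, map_zero] at hc
      exact inv_ne_zero (mul_ne_zero hz0 hzb) hc.symm
    obtain ⟨φ, hφ⟩ := FormNormal.similar_even (Q := Q) (n := m) (by rw [Module.finrank_fin_fun, hnm]) hnd hc0
    set g : GL₀ := Matrix.GeneralLinearGroup.toLin.symm (LinearMap.GeneralLinearGroup.ofLinearEquiv φ)
    have hg : ∀ x, (g : M₀) *ᵥ x = φ x := fun x => by
      rw [← Matrix.mulVecLin_apply, ← Matrix.GeneralLinearGroup.coe_toLin, MulEquiv.apply_symm_apply]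
      rfl
    have hgc := hsim g (Units.mk0 c hc0) fun v => by rw [hg, hφ]; rfl
    obtain ⟨h, z', hh, hzc, hd⟩ := exists_det hF hι hn hA g hgc
    rw [Units.val_mk0] at hzc
    have hz' : z' ≠ 0 := fun h0 => by rw [h0, zero_mul, zero_mul] at hzc; exact zero_ne_one hzc
    have hdet2 : (g : M₀).det * (g : M₀).det = c ^ n := by
      have := congrArg Units.val (Known.AutPSLn.Invol.det_sim_sq hgc)
      rw [Units.val_pow_eq_pow_val, Units.val_pow_eq_pow_val, Units.val_mk0, pow_two] at this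
      exact this
    have hv : Units.mk0 (z / z') (div_ne_zero hz0 hz') ∈ N1 hF := by
      have hb : z' * powConj hF z' = z * powConj hF z := by
        rw [hc] at hzc
        exact (mul_inv_eq_one₀ (mul_ne_zero hz0 hzb)).1 hzc
      rw [mem_N1, Units.val_mk0, map_div₀, div_mul_div_comm, hb, div_self]
      exact mul_ne_zero hz0 hzb
    have hmem := mul_mem (Subgroup.mem_map_of_mem (guDet hF) hh) (scalar_mem hF hn A ⟨_, hv⟩)
    set x : N1 hF := guDet hF h * ⟨Units.mk0 (z / z') _, hv⟩ ^ n with hx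
    have hxv : ((x : Fˣ) : F) = z ^ n * ι (g : M₀).det := by
      simp only [hx, Subgroup.coe_mul, SubmonoidClass.coe_pow, Units.val_mul, Units.val_pow_eq_pow_val, Units.val_mk0, hd]
      rw [mul_right_comm, ← mul_pow, mul_div_cancel₀ _ hz']
    have hxx : ((x : Fˣ) : F) ^ 2 = ((w : Fˣ) : F) ^ 2 := by
      have huz : ((u : Fˣ) : F) = z ^ 2 * ι c := by
        rw [hc, ← div_eq_mul_inv, eq_div_iff (mul_ne_zero hz0 hzb)]
        linear_combination (-z) * hz
      rw [← hu', ← hnm, hxv, mul_pow, ← map_pow ι, pow_two (g : M₀).det, hdet2, map_pow, ← pow_mul, mul_comm n 2, pow_mul,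
        ← mul_pow, huz]
    rcases sq_eq_sq_iff_eq_or_eq_neg.1 hxx with e | e
    · exact (show x = w from Subtype.ext (Units.ext e)) ▸ hmem
    · have := mul_mem hneg hmem
      convert this using 1
      exact Subtype.ext (Units.ext (by rw [Subgroup.coe_mul, Units.val_mul, e]; simp))

end Cfsg.Lib.Unitary.Invol
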